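import Groth.Agent.RelBert.K989.Span
import Mathlib.RingTheory.PrincipalIdealDomainOfPrime
import Mathlib.RingTheory.QuasiFinite.Basic
import Mathlib.RingTheory.RegularLocalRing.Defs
import Mathlib.RingTheory.Ideal.MinimalPrime.Localization
import Mathlib.RingTheory.KrullDimension.Basic

/-!
# Local algebra at the points of the base locus
-/

set_option autoImplicit false
universe u

open IsLocalRing Polynomial

namespace K989.RBBase

open K989.RBSpan

variable {R : Type u} [CommRing R] [IsLocalRing R] {C : Type u} [CommRing C] [Algebra R C]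

theorem alg_of_quasiFinite [Algebra.QuasiFinite R C] (q : Ideal C) [q.IsPrime]
    (hq : maximalIdeal R ≤ q.comap (algebraMap R C)) : Alg R q := by
  intro b
  let _ : Algebra (ResidueField R) q.ResidueField := (resMap q hq).toRingHom.toAlgebra
  have ht : IsScalarTower R (ResidueField R) q.ResidueField := IsScalarTower.of_algebraMap_eq fun c =>
    ((resMap q hq).commutes c).symm
  have h1 : Algebra.QuasiFinite R q.ResidueField := inferInstance
  have h2 : Algebra.QuasiFinite (ResidueField R) q.ResidueField := Algebra.QuasiFinite.of_restrictScalars R _ _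
  have h3 : Module.Finite (ResidueField R) q.ResidueField := Module.Finite.of_quasiFinite
  let β : q.ResidueField := algebraMap C q.ResidueField b
  have hint : IsIntegral (ResidueField R) β := Algebra.IsIntegral.isIntegral β
  obtain ⟨P₀, hP₀, hP₀β⟩ := hint
  have hl : P₀ ∈ Polynomial.lifts (algebraMap R (ResidueField R)) := by
    obtain ⟨Q, hQ⟩ := Polynomial.map_surjective (algebraMap R (ResidueField R)) residue_surjective P₀
    exact (Polynomial.mem_lifts _).2 ⟨Q, hQ⟩
  obtain ⟨Q, hQ, -, hQm⟩ := Polynomial.lifts_and_natDegree_eq_and_monic hl hP₀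
  refine ⟨Q, hQm, ?_⟩
  rw [← Ideal.algebraMap_residueField_eq_zero]
  have hev : algebraMap C q.ResidueField (aeval b Q) = aeval β (Q.map (algebraMap R (ResidueField R))) := by
    rw [aeval_map_algebraMap, ← aeval_algebraMap_apply]
  rw [hev, hQ]
  exact hP₀β

theorem fin_of_quasiFinite [Algebra.QuasiFinite R C] :
    {q : PrimeSpectrum C | maximalIdeal R ≤ q.asIdeal.comap (algebraMap R C)}.Finite := by
  refine (Algebra.QuasiFinite.finite_comap_preimage_singleton (S := C) (IsLocalRing.closedPoint R)).subset ?_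
  intro q hq
  refine PrimeSpectrum.ext ?_
  exact ((IsLocalRing.maximalIdeal.isMaximal R).eq_of_le (Ideal.IsPrime.ne_top inferInstance) hq).symm

theorem under_eq (q : Ideal C) [q.IsPrime] (hq : maximalIdeal R ≤ q.comap (algebraMap R C)) :
    q.under R = maximalIdeal R :=
  ((IsLocalRing.maximalIdeal.isMaximal R).eq_of_le (Ideal.IsPrime.ne_top inferInstance) hq).symm

theorem exists_of_reduced [Algebra.QuasiFinite R C]
    (hred : IsReduced (C ⧸ (maximalIdeal R).map (algebraMap R C))) (q : Ideal C) [q.IsPrime]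
    (hq : maximalIdeal R ≤ q.comap (algebraMap R C)) (x : C) (hx : x ∈ q) :
    ∃ u ∉ q, u * x ∈ (maximalIdeal R).map (algebraMap R C) := by
  have hmin : q ∈ ((maximalIdeal R).map (algebraMap R C)).minimalPrimes := by
    refine ⟨⟨inferInstance, Ideal.map_le_iff_le_comap.2 hq⟩, fun q' hq' hle => ?_⟩
    have := hq'.1
    have h1 := Algebra.QuasiFinite.eq_of_le_of_under_eq (R := R) q' q hle
      (by rw [under_eq q hq, under_eq q' (Ideal.map_le_iff_le_comap.1 hq'.2)])
    exact h1.ge
  have h1 : algebraMap C (Localization.AtPrime q) x ∈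
      (((maximalIdeal R).map (algebraMap R C)).map (algebraMap C (Localization.AtPrime q))).radical := by
    rw [IsLocalization.AtPrime.radical_map_of_mem_minimalPrimes (A := Localization.AtPrime q) q _ hmin]
    exact Ideal.mem_map_of_mem _ hx
  obtain ⟨n, hn⟩ := h1
  rw [← map_pow, IsLocalization.algebraMap_mem_map_algebraMap_iff q.primeCompl] at hn
  obtain ⟨y, hy, hyn⟩ := hn
  refine ⟨y, hy, ?_⟩
  rw [← Ideal.Quotient.eq_zero_iff_mem] at hyn ⊢
  refine hred.eq_zero _ ⟨n + 1, ?_⟩
  rw [map_mul, mul_pow, pow_succ, pow_succ]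
  rw [map_mul, map_pow] at hyn
  linear_combination ((Ideal.Quotient.mk ((maximalIdeal R).map (algebraMap R C)) y) ^ n *
    (Ideal.Quotient.mk ((maximalIdeal R).map (algebraMap R C)) x)) * hyn

omit [IsLocalRing R] in
theorem ringKrullDim_le [Algebra.QuasiFinite R C] : ringKrullDim C ≤ ringKrullDim R := by
  refine Order.krullDim_le_of_strictMono (PrimeSpectrum.comap (algebraMap R C)) fun P Q hPQ => ?_
  refine lt_of_le_of_ne (Ideal.comap_mono hPQ.le) fun h => hPQ.ne ?_
  refine PrimeSpectrum.ext ?_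
  exact Algebra.QuasiFinite.eq_of_le_of_under_eq (R := R) P.asIdeal Q.asIdeal hPQ.le
    (congrArg PrimeSpectrum.asIdeal h)

omit [IsLocalRing R] in
theorem exists_of_regular [Algebra.QuasiFinite R C] (hR : ringKrullDim R ≤ 1) (q : Ideal C) [q.IsPrime]
    (hreg : IsRegularLocalRing (Localization.AtPrime q)) :
    ∃ t ∈ q, ∀ x ∈ q, ∃ u ∉ q, u * x ∈ Ideal.span {t} := by
  have h1 : ringKrullDim (Localization.AtPrime q) ≤ 1 := ringKrullDim_le.trans hR
  have h2 := hreg.spanFinrank_maximalIdeal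
  have hfg : (maximalIdeal (Localization.AtPrime q)).FG := IsNoetherian.noetherian _
  have h3 : (maximalIdeal (Localization.AtPrime q)).spanFinrank ≤ 1 := by
    rw [← h2] at h1
    exact_mod_cast h1
  have h4 : (maximalIdeal (Localization.AtPrime q)).IsPrincipal := by
    rcases Nat.lt_or_ge (maximalIdeal (Localization.AtPrime q)).spanFinrank 1 with h | h
    · rw [Nat.lt_one_iff, Submodule.spanFinrank_eq_zero_iff_eq_bot hfg] at h
      rw [h]
      infer_instance
    · exact ((Submodule.spanFinrank_eq_one_iff _).1 (le_antisymm h3 h)).1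
  obtain ⟨τ, hτ⟩ := h4
  obtain ⟨t, s, rfl⟩ := IsLocalization.exists_mk'_eq q.primeCompl τ
  have hts : Ideal.span {IsLocalization.mk' (Localization.AtPrime q) t s} =
      (Ideal.span {t}).map (algebraMap C (Localization.AtPrime q)) := by
    rw [Ideal.map_span, Set.image_singleton, ← IsLocalization.mk'_spec (Localization.AtPrime q) t s,
      Ideal.span_singleton_mul_right_unit (IsLocalization.map_units _ s)]
  have hτ' : maximalIdeal (Localization.AtPrime q) = (Ideal.span {t}).map (algebraMap C (Localization.AtPrime q)) := by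
    rw [← hts]; exact hτ
  refine ⟨t, ?_, fun x hx => ?_⟩
  · rw [← IsLocalization.AtPrime.to_map_mem_maximal_iff (Localization.AtPrime q) q, hτ']
    exact Ideal.mem_map_of_mem _ (Ideal.mem_span_singleton_self t)
  · rw [← IsLocalization.AtPrime.to_map_mem_maximal_iff (Localization.AtPrime q) q, hτ',
      IsLocalization.algebraMap_mem_map_algebraMap_iff q.primeCompl] at hx
    obtain ⟨u, hu, hux⟩ := hx
    exact ⟨u, hu, hux⟩

section Inf

variable {A : Type u} [CommRing A] [Algebra R A]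

theorem gen_zero_iff {I p : Ideal A} :
    Gen R 0 I p ↔ ∀ x ∈ p, ∃ u ∉ p, u * x ∈ I ⊔ (maximalIdeal R).map (algebraMap R A) := by
  constructor
  · rintro ⟨a, -, h⟩ x hx
    obtain ⟨u, hu, hux⟩ := h x hx
    refine ⟨u, hu, ?_⟩
    rwa [Set.range_eq_empty, Ideal.span_empty, sup_bot_eq] at hux
  · intro h
    refine ⟨Fin.elim0, fun i => Fin.elim0 i, fun x hx => ?_⟩
    obtain ⟨u, hu, hux⟩ := h x hx
    exact ⟨u, hu, Ideal.mem_sup_left hux⟩

theorem gen_one_of_gen_zero {I p : Ideal A} (h : Gen R 0 I p) : Gen R 1 I p := by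
  rw [gen_zero_iff] at h
  refine ⟨fun _ => 0, fun _ => zero_mem _, fun x hx => ?_⟩
  obtain ⟨u, hu, hux⟩ := h x hx
  exact ⟨u, hu, Ideal.mem_sup_left hux⟩

theorem gen_inf_of_not_le {s : ℕ} {I₁ I₂ p : Ideal A} [p.IsPrime] (h₂ : ¬ I₂ ≤ p) (h : Gen R s I₁ p) :
    Gen R s (I₁ ⊓ I₂) p := by
  obtain ⟨a, ha, h⟩ := h
  obtain ⟨w, hw, hwp⟩ := Set.not_subset.1 h₂
  refine ⟨a, ha, fun x hx => ?_⟩
  obtain ⟨u, hu, hux⟩ := h x hx
  refine ⟨w * u, fun h' => (Ideal.IsPrime.mem_or_mem inferInstance h').elim hwp hu, ?_⟩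
  obtain ⟨v, hv, z, hz, hvz⟩ := Submodule.mem_sup.1 hux
  obtain ⟨y, hy, m, hm, hym⟩ := Submodule.mem_sup.1 hv
  rw [mul_assoc, ← hvz, ← hym, mul_add, mul_add]
  refine add_mem (Ideal.mem_sup_left (add_mem (Ideal.mem_sup_left ?_) (Ideal.mem_sup_right ?_))) (Ideal.mem_sup_right ?_)
  · exact ⟨Ideal.mul_mem_left _ _ hy, Ideal.mul_mem_right _ _ hw⟩
  · exact Ideal.mul_mem_left _ _ hm
  · exact Ideal.mul_mem_left _ _ hz

theorem gen_inf [IsNoetherianRing A] (hπ : (maximalIdeal R).IsPrincipal) {I₁ I₂ p : Ideal A} [p.IsPrime]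
    (hp : maximalIdeal R ≤ p.comap (algebraMap R A)) (hI₁ : I₁ ≤ p) (hI₂ : I₂ ≤ p) (h₁ : Gen R 0 I₁ p)
    (h₂ : Gen R 0 I₂ p) : Gen R 1 (I₁ ⊓ I₂) p := by
  rw [gen_zero_iff] at h₁ h₂
  obtain ⟨π, hπ⟩ := hπ
  have hπA : (maximalIdeal R).map (algebraMap R A) = Ideal.span {algebraMap R A π} := by
    rw [hπ, Ideal.submodule_span_eq, Ideal.map_span, Set.image_singleton]
  rw [hπA] at h₁ h₂
  have hπp : algebraMap R A π ∈ p := hp (by rw [hπ]; exact Ideal.mem_span_singleton_self π)
  let O := Localization.AtPrime p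
  let J₂ : Ideal O := I₂.map (algebraMap A O)
  have hJ₂ : J₂ ≤ maximalIdeal O := by
    rw [Ideal.map_le_iff_le_comap]
    intro x hx
    exact (IsLocalization.AtPrime.to_map_mem_maximal_iff O p x).2 (hI₂ hx)
  have hNO : IsNoetherianRing O := IsLocalization.isNoetherianRing p.primeCompl O inferInstance
  have hJ₂' : J₂ ≠ ⊤ := fun h => (IsLocalRing.maximalIdeal.isMaximal O).ne_top (top_le_iff.1 (h ▸ hJ₂))
  have : Nontrivial (O ⧸ J₂) := Ideal.Quotient.nontrivial_iff.2 hJ₂'
  let V := O ⧸ J₂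
  have hVl : IsLocalRing V := IsLocalRing.of_surjective' (Ideal.Quotient.mk J₂) Ideal.Quotient.mk_surjective
  let θ : A →+* V := (Ideal.Quotient.mk J₂).comp (algebraMap A O)
  have hmax : maximalIdeal V = Ideal.span {θ (algebraMap R A π)} := by
    apply le_antisymm
    · intro y hy
      obtain ⟨y, rfl⟩ := Ideal.Quotient.mk_surjective y
      obtain ⟨x, s, rfl⟩ := IsLocalization.exists_mk'_eq p.primeCompl y
      have hx : x ∈ p := by
        by_contra hx
        have hu : IsUnit (IsLocalization.mk' O x s) := (IsLocalization.AtPrime.isUnit_mk'_iff O p x s).2 hx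
        exact hy (hu.map _)
      obtain ⟨u, hu, hux⟩ := h₂ x hx
      have h3 : θ (u * x) ∈ Ideal.span {θ (algebraMap R A π)} := by
        obtain ⟨y, hy, z, hz, hyz⟩ := Submodule.mem_sup.1 hux
        obtain ⟨r, rfl⟩ := Ideal.mem_span_singleton'.1 hz
        rw [← hyz, map_add, map_mul θ r]
        refine add_mem ?_ (Ideal.mul_mem_left _ _ (Ideal.mem_span_singleton_self _))
        have : θ y = 0 := Ideal.Quotient.eq_zero_iff_mem.2 (Ideal.mem_map_of_mem _ hy)
        rw [this]; exact zero_mem _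
      have hu' : IsUnit (θ u) := ((IsLocalization.AtPrime.isUnit_to_map_iff O p u).2 hu).map (Ideal.Quotient.mk J₂)
      have hs' : IsUnit (θ s) := (IsLocalization.map_units O s).map (Ideal.Quotient.mk J₂)
      have h4 : θ s * Ideal.Quotient.mk J₂ (IsLocalization.mk' O x s) = θ x := by
        change Ideal.Quotient.mk J₂ _ * _ = Ideal.Quotient.mk J₂ _
        rw [← map_mul, IsLocalization.mk'_spec']
      rw [← Ideal.unit_mul_mem_iff_mem _ hs', h4, ← Ideal.unit_mul_mem_iff_mem _ hu', ← map_mul]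
      exact h3
    · rw [Ideal.span_singleton_le_iff_mem]
      intro hu
      obtain ⟨v, hv⟩ := hu.exists_left_inv
      obtain ⟨v, rfl⟩ := Ideal.Quotient.mk_surjective v
      have h3 : 1 - v * algebraMap A O (algebraMap R A π) ∈ J₂ := by
        rw [← Ideal.Quotient.eq_zero_iff_mem, map_sub, map_one, map_mul, sub_eq_zero]
        exact hv.symm
      have h4 : algebraMap A O (algebraMap R A π) ∈ maximalIdeal O :=
        (IsLocalization.AtPrime.to_map_mem_maximal_iff O p _).2 hπp
      have h5 : (1 : O) ∈ maximalIdeal O := by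
        have := add_mem (hJ₂ h3) (Ideal.mul_mem_left _ v h4)
        rwa [sub_add_cancel] at this
      exact (IsLocalRing.maximalIdeal.isMaximal O).ne_top ((Ideal.eq_top_iff_one _).2 h5)
  have hPIR : IsPrincipalIdealRing V := by
    refine IsPrincipalIdealRing.of_prime fun Q hQ => ?_
    by_cases hπQ : θ (algebraMap R A π) ∈ Q
    · have h3 : Q = maximalIdeal V := by
        refine le_antisymm (IsLocalRing.le_maximalIdeal hQ.ne_top) ?_
        rw [hmax, Ideal.span_singleton_le_iff_mem]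
        exact hπQ
      rw [h3, hmax]
      exact ⟨⟨_, rfl⟩⟩
    · have hNV : IsNoetherianRing V := inferInstance
      have h3 : Q ≤ maximalIdeal V • Q := by
        intro y hy
        have h4 : y ∈ maximalIdeal V := IsLocalRing.le_maximalIdeal hQ.ne_top hy
        rw [hmax] at h4
        obtain ⟨r, rfl⟩ := Ideal.mem_span_singleton'.1 h4
        rw [mul_comm]
        refine Submodule.smul_mem_smul ?_ ((hQ.mem_or_mem hy).resolve_right hπQ)
        rw [hmax]
        exact Ideal.mem_span_singleton_self _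
      have h5 : Q = ⊥ := Submodule.eq_bot_of_le_smul_of_le_jacobson_bot (maximalIdeal V) Q
        (IsNoetherian.noetherian _) h3 (IsLocalRing.maximalIdeal_le_jacobson _)
      rw [h5]
      infer_instance
  obtain ⟨β, hβ⟩ := hPIR.principal (I₁.map θ)
  have hθ : ∀ v : V, ∃ (r s : A), s ∉ p ∧ θ s * v = θ r := by
    intro v
    obtain ⟨y, rfl⟩ := Ideal.Quotient.mk_surjective v
    obtain ⟨r, s, rfl⟩ := IsLocalization.exists_mk'_eq p.primeCompl y
    refine ⟨r, s, s.2, ?_⟩
    change Ideal.Quotient.mk J₂ _ * _ = Ideal.Quotient.mk J₂ _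
    rw [← map_mul, IsLocalization.mk'_spec']
  have hθ0 : ∀ x : A, θ x = 0 → ∃ w ∉ p, w * x ∈ I₂ := by
    intro x hx
    have h3 : algebraMap A O x ∈ J₂ := Ideal.Quotient.eq_zero_iff_mem.1 hx
    rw [IsLocalization.algebraMap_mem_map_algebraMap_iff p.primeCompl] at h3
    exact h3
  -- a generator from `I₁`
  obtain ⟨a, ha, s₀, hs₀, has₀⟩ : ∃ a ∈ I₁, ∃ s₀ ∉ p, θ a = θ s₀ * β := by
    have h3 : β ∈ I₁.map θ := by rw [hβ]; exact Ideal.mem_span_singleton_self β
    have h4 : ∀ v ∈ I₁.map θ, ∃ a ∈ I₁, ∃ s₀ ∉ p, θ a = θ s₀ * v := by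
      intro v hv
      refine Submodule.span_induction (p := fun v _ => ∃ a ∈ I₁, ∃ s₀ ∉ p, θ a = θ s₀ * v) ?_ ?_ ?_ ?_ hv
      · rintro _ ⟨a, ha, rfl⟩
        exact ⟨a, ha, 1, fun h => Ideal.IsPrime.ne_top inferInstance ((Ideal.eq_top_iff_one p).2 h), by
          rw [map_one, one_mul]⟩
      · exact ⟨0, zero_mem _, 1, fun h => Ideal.IsPrime.ne_top inferInstance ((Ideal.eq_top_iff_one p).2 h), by
          rw [map_zero, mul_zero]⟩
      · rintro v w _ _ ⟨a, ha, s, hs, h⟩ ⟨b, hb, t, ht, h'⟩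
        refine ⟨t * a + s * b, add_mem (Ideal.mul_mem_left _ _ ha) (Ideal.mul_mem_left _ _ hb), s * t,
          fun h => (Ideal.IsPrime.mem_or_mem inferInstance h).elim hs ht, ?_⟩
        rw [map_add, map_mul, map_mul, map_mul, h, h']
        ring
      · rintro r v _ ⟨a, ha, s, hs, h⟩
        obtain ⟨r', t, ht, hr'⟩ := hθ r
        refine ⟨r' * a, Ideal.mul_mem_left _ _ ha, s * t,
          fun h => (Ideal.IsPrime.mem_or_mem inferInstance h).elim hs ht, ?_⟩
        rw [map_mul, map_mul, h, ← hr', smul_eq_mul]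
        ring
    exact h4 β h3
  refine ⟨fun _ => a, fun _ => hI₁ ha, fun x hx => ?_⟩
  obtain ⟨u, hu, hux⟩ := h₁ x hx
  obtain ⟨y, hy, z, hz, hyz⟩ := Submodule.mem_sup.1 hux
  have h3 : θ y ∈ Ideal.span {β} := by
    have := Ideal.mem_map_of_mem θ hy
    rwa [hβ] at this
  obtain ⟨ρ, hρ⟩ := Ideal.mem_span_singleton'.1 h3
  obtain ⟨r, s, hs, hr⟩ := hθ ρ
  -- `s₀ * s * y - r * a ∈ ker θ`
  have h4 : θ (s₀ * s * y - r * a) = 0 := by
    rw [map_sub, map_mul, map_mul, map_mul, ← hr, has₀, ← hρ]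
    ring
  obtain ⟨w, hw, hwI⟩ := hθ0 _ h4
  refine ⟨w * (s₀ * s) * u, fun h => ?_, ?_⟩
  · rcases Ideal.IsPrime.mem_or_mem inferInstance h with h | h
    · rcases Ideal.IsPrime.mem_or_mem inferInstance h with h | h
      · exact hw h
      · exact (Ideal.IsPrime.mem_or_mem inferInstance h).elim hs₀ hs
    · exact hu h
  · have h5 : w * (s₀ * s) * u * x = w * (s₀ * s * y - r * a) + w * (s₀ * s) * z + (w * r) * a := by
      rw [mul_assoc, ← hyz]; ring
    rw [h5, hπA]
    refine add_mem (Ideal.mem_sup_left (add_mem (Ideal.mem_sup_left ?_) (Ideal.mem_sup_right ?_)))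
      (Ideal.mem_sup_right ?_)
    · exact ⟨Ideal.mul_mem_left _ _ (sub_mem (Ideal.mul_mem_left _ _ hy) (Ideal.mul_mem_left _ _ ha)), hwI⟩
    · exact Ideal.mul_mem_left _ _ hz
    · exact Ideal.mul_mem_left _ _ (Ideal.subset_span ⟨0, rfl⟩)

end Inf

end K989.RBBase
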