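import Groth.Agent.RelBert.K989.Proj4
import Groth.Agent.Picfga.ClosedMap
import Groth.Agent.CalgB.ProjField

/-!
# Smooth hypersurface sections through finite closed subschemes over a local ring
-/

set_option autoImplicit false
universe u

open CategoryTheory CategoryTheory.Limits AlgebraicGeometry CohB1
open IsLocalRing (maximalIdeal ResidueField residue)

namespace K989.RBProj

variable {n : ℕ} {R : Type u} [CommRing R]

theorem exists_iso_ker {Z P : Scheme.{u}} (z : Z ⟶ P) [IsClosedImmersion z] :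
    ∃ e : Z ≅ z.ker.subscheme, e.hom ≫ z.ker.subschemeι = z :=
  ⟨asIso z.toImage, z.toImage_imageι⟩

theorem smooth_iso_iff {Y Z : Scheme.{u}} (d : ℕ) (e : Y ≅ Z) (g : Z ⟶ Spec (CommRingCat.of R)) :
    SmoothOfRelativeDimension d (e.hom ≫ g) ↔ SmoothOfRelativeDimension d g := by
  have := zls.{u} d
  refine ⟨fun h => ?_, fun h => IsZariskiLocalAtSource.comp (P := @SmoothOfRelativeDimension.{u} d) h e.hom⟩
  have h1 := IsZariskiLocalAtSource.comp (P := @SmoothOfRelativeDimension.{u} d) h e.inv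
  rwa [Iso.inv_hom_id_assoc] at h1

variable {X : Scheme.{u}} (c : X ⟶ ProjSpace n R) [IsClosedImmersion c]

theorem exists_iso_map (I : X.IdealSheafData) :
    ∃ e : I.subscheme ≅ (I.map c).subscheme, e.hom ≫ (I.map c).subschemeι = I.subschemeι ≫ c :=
  exists_iso_ker (I.subschemeι ≫ c)

theorem smooth_map_iff (d : ℕ) (I : X.IdealSheafData) :
    SmoothOfRelativeDimension d ((I.map c).subschemeι ≫ ProjSpace.toSpec n R) ↔
      SmoothOfRelativeDimension d (I.subschemeι ≫ c ≫ ProjSpace.toSpec n R) := by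
  obtain ⟨e, he⟩ := exists_iso_map c I
  rw [← smooth_iso_iff d e, ← Category.assoc, he, Category.assoc]

theorem isFinite_map (I : X.IdealSheafData) [IsFinite (I.subschemeι ≫ c ≫ ProjSpace.toSpec n R)] :
    IsFinite ((I.map c).subschemeι ≫ ProjSpace.toSpec n R) := by
  obtain ⟨e, he⟩ := exists_iso_map c I
  have h1 : (I.map c).subschemeι ≫ ProjSpace.toSpec n R = e.inv ≫ I.subschemeι ≫ c ≫ ProjSpace.toSpec n R := by
    rw [← Category.assoc I.subschemeι, ← he, Category.assoc, Iso.inv_hom_id_assoc]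
  rw [h1]
  infer_instance

theorem isReduced_pullback_map (I : X.IdealSheafData) {T : Scheme.{u}} (t : T ⟶ Spec (CommRingCat.of R))
    (h : AlgebraicGeometry.IsReduced (pullback (I.subschemeι ≫ c ≫ ProjSpace.toSpec n R) t)) :
    AlgebraicGeometry.IsReduced (pullback ((I.map c).subschemeι ≫ ProjSpace.toSpec n R) t) := by
  obtain ⟨e, he⟩ := exists_iso_map c I
  have h1 : (I.map c).subschemeι ≫ ProjSpace.toSpec n R = e.inv ≫ I.subschemeι ≫ c ≫ ProjSpace.toSpec n R := by
    rw [← Category.assoc I.subschemeι, ← he, Category.assoc, Iso.inv_hom_id_assoc]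
  let j : pullback ((I.map c).subschemeι ≫ ProjSpace.toSpec n R) t ⟶
      pullback (I.subschemeι ≫ c ≫ ProjSpace.toSpec n R) t :=
    pullback.map _ _ _ _ e.inv (𝟙 _) (𝟙 _) (by rw [Category.comp_id, h1]) (by simp)
  exact isReduced_of_isOpenImmersion j

theorem isRegular_map (I : X.IdealSheafData)
    (h : ∀ z : I.subscheme, IsRegularLocalRing (I.subscheme.presheaf.stalk z)) (z : (I.map c).subscheme) :
    IsRegularLocalRing ((I.map c).subscheme.presheaf.stalk z) := by
  obtain ⟨e, he⟩ := exists_iso_map c I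
  exact (Groth.Agent.Models.RMOpen.stalk_openImmersion_iff e.inv z).1 (h _)

omit [IsClosedImmersion c] in
theorem ker_le_map (I : X.IdealSheafData) : c.ker ≤ I.map c := by
  rw [← Scheme.IdealSheafData.map_bot]
  exact Scheme.IdealSheafData.map_mono c bot_le

/-- **Bertini over a local ring**, intrinsic form. -/
theorem exists_hypersurface_of_le [IsLocalRing R] [IsNoetherianRing R] [Infinite (ResidueField R)]
    [PerfectField (ResidueField R)] {κ : Type} [Finite κ] (W : κ → X.IdealSheafData) (e : κ → ℕ)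
    (hW : ∀ a, SmoothOfRelativeDimension (e a) ((W a).subschemeι ≫ c ≫ ProjSpace.toSpec n R))
    (Z : X.IdealSheafData) (s : ℕ) (hZ : BaseLe s (Z.map c)) (hse : ∀ a, s < e a) :
    ∃ H : X.IdealSheafData, H ≤ Z ∧
      ∀ a, SmoothOfRelativeDimension (e a - 1) ((W a ⊔ H).subschemeι ≫ c ≫ ProjSpace.toSpec n R) := by
  obtain ⟨H, hH, hs⟩ := exists_hypersurface (fun a => (W a).map c) e (fun a => (smooth_map_iff c _ _).2 (hW a))
    (Z.map c) s hZ hse
  refine ⟨H.comap c, Scheme.IdealSheafData.le_map_iff_comap_le.1 hH, fun a => ?_⟩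
  rw [← smooth_map_iff]
  have h1 : (W a ⊔ H.comap c).map c = (W a).map c ⊔ H := by
    have h2 : W a ⊔ H.comap c = ((W a).map c ⊔ H).comap c := by
      rw [Scheme.IdealSheafData.comap_sup, Groth.Agent.Picfga.ClosedMap.comap_map]
    rw [h2, Groth.Agent.Picfga.ClosedMap.map_comap]
    exact (ker_le_map c (W a)).trans le_sup_left
  rw [h1]
  exact hs a

end K989.RBProj
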