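import Groth.Agent.RelBert.K989.Final
import Groth.Agent.Sga4A.DiscGeom
import Groth.Agent.Lefpen.H879.Ker
import Groth.Agent.Flat2B.SmoothGeom
import Mathlib.AlgebraicGeometry.ZariskisMainTheorem

/-!
# Smooth relative curves through a finite regular closed subscheme, and transversal hypersurfaces
-/

set_option autoImplicit false
universe u

open CategoryTheory CategoryTheory.Limits AlgebraicGeometry CohB1
open IsLocalRing (maximalIdeal ResidueField residue)

namespace K989.RBProj

variable {n : ℕ} {R : Type u} [CommRing R]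

theorem isFinite_of_smooth_zero {Y S : Scheme.{u}} (g : Y ⟶ S) [IsProper g] (h : SmoothOfRelativeDimension 0 g) :
    IsFinite g := by
  have h1 : Etale g := (Etale.iff_smoothOfRelativeDimension_zero g).2 h
  have h2 := Groth.Agent.Sga4A.DiscGeom.locallyQuasiFinite_of_etale g
  exact IsFinite.of_isProper_of_locallyQuasiFinite g

/-- The special fibre of an étale closed subscheme, as a closed subscheme. -/
theorem special_fibre {X : Scheme.{u}} [IsLocalRing R] (f : X ⟶ Spec (CommRingCat.of R)) [IsProper f]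
    (Y : X.IdealSheafData) (h : SmoothOfRelativeDimension 0 (Y.subschemeι ≫ f)) :
    AlgebraicGeometry.IsReduced (Y ⊔ (pullback.fst f (Spec.map (CommRingCat.ofHom
      (algebraMap R (ResidueField R))))).ker).subscheme ∧
      IsFinite ((Y ⊔ (pullback.fst f (Spec.map (CommRingCat.ofHom
        (algebraMap R (ResidueField R))))).ker).subschemeι ≫ f) := by
  let r : Spec (CommRingCat.of (ResidueField R)) ⟶ Spec (CommRingCat.of R) :=
    Spec.map (CommRingCat.ofHom (algebraMap R (ResidueField R)))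
  have hr : IsClosedImmersion r := IsClosedImmersion.spec_of_surjective _ IsLocalRing.residue_surjective
  have hfin : IsFinite (Y.subschemeι ≫ f) := isFinite_of_smooth_zero _ h
  let y₀ : pullback (Y.subschemeι ≫ f) r ⟶ Y.subscheme := pullback.fst _ _
  have hy₀ : IsClosedImmersion y₀ := inferInstance
  have hker : (y₀ ≫ Y.subschemeι).ker = Y ⊔ (pullback.fst f r).ker := by
    rw [Scheme.IdealSheafData.ker_fst_of_isClosedImmersion, Scheme.Hom.ker_comp,
      Scheme.IdealSheafData.ker_fst_of_isClosedImmersion, Scheme.IdealSheafData.comap_comp,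
      Groth.Agent.Lefpen.H879.Ker.map_comap_eq, Scheme.IdealSheafData.ker_subschemeι]
  obtain ⟨e, he⟩ := exists_iso_ker (y₀ ≫ Y.subschemeι)
  have hsm : SmoothOfRelativeDimension 0 (pullback.snd (Y.subschemeι ≫ f) r) :=
    (smoothOfRelativeDimension_isStableUnderBaseChange.{u} 0).of_isPullback (IsPullback.of_hasPullback _ _) h
  have hsm' : Smooth (pullback.snd (Y.subschemeι ≫ f) r) := hsm.smooth
  have hred : AlgebraicGeometry.IsReduced (pullback (Y.subschemeι ≫ f) r) :=
    Groth.Agent.Flat2B.SmoothGeom.isReduced_of_smooth (K := ResidueField R) (pullback.snd (Y.subschemeι ≫ f) r)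
  have key : ∀ K : X.IdealSheafData, (y₀ ≫ Y.subschemeι).ker = K →
      AlgebraicGeometry.IsReduced K.subscheme ∧ IsFinite (K.subschemeι ≫ f) := by
    rintro _ rfl
    refine ⟨isReduced_of_isOpenImmersion e.inv, ?_⟩
    have h1 : (y₀ ≫ Y.subschemeι).ker.subschemeι ≫ f = e.inv ≫ y₀ ≫ Y.subschemeι ≫ f := by
      rw [Iso.eq_inv_comp, ← Category.assoc, he, Category.assoc]
    rw [h1]
    infer_instance
  exact key _ hker

section Curve

variable {X : Scheme.{u}} (c : X ⟶ ProjSpace n R) [IsClosedImmersion c] [IsLocalRing R] [IsNoetherianRing R]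
  [Infinite (ResidueField R)] [PerfectField (ResidueField R)]

/-- Smooth relative curves containing `T`. -/
theorem exists_curve (T : X.IdealSheafData) (hT : BaseLe 1 (T.map c)) (e : ℕ) (W : X.IdealSheafData) (hW : W ≤ T)
    (hs : SmoothOfRelativeDimension (e + 1) (W.subschemeι ≫ c ≫ ProjSpace.toSpec n R)) :
    ∃ J : X.IdealSheafData, W ≤ J ∧ J ≤ T ∧ SmoothOfRelativeDimension 1 (J.subschemeι ≫ c ≫ ProjSpace.toSpec n R) := by
  induction e generalizing W with
  | zero => exact ⟨W, le_rfl, hW, hs⟩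
  | succ e ih =>
    obtain ⟨H, hH, hHs⟩ := exists_hypersurface_of_le c (κ := Unit) (fun _ => W) (fun _ => e + 1 + 1) (fun _ => hs) T 1
      hT (fun _ => by omega)
    obtain ⟨J, hJ, hJT, hJs⟩ := ih (W ⊔ H) (sup_le hW hH) (hHs ())
    exact ⟨J, le_sup_left.trans hJ, hJT, hJs⟩

theorem exists_curve_and_hypersurface (d : ℕ) (hd : 1 ≤ d) [SmoothOfRelativeDimension d (c ≫ ProjSpace.toSpec n R)]
    (T C : X.IdealSheafData) (hT : BaseLe 1 (T.map c)) (hC : BaseLe 0 (C.map c)) :
    ∃ Z Z' : X.IdealSheafData, SmoothOfRelativeDimension 1 (Z.subschemeι ≫ c ≫ ProjSpace.toSpec n R) ∧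
      SmoothOfRelativeDimension (d - 1) (Z'.subschemeι ≫ c ≫ ProjSpace.toSpec n R) ∧ Z ≤ T ∧ Z' ≤ C ∧
      SmoothOfRelativeDimension 0 ((Z ⊔ Z').subschemeι ≫ c ≫ ProjSpace.toSpec n R) := by
  have hbot : SmoothOfRelativeDimension d ((⊥ : X.IdealSheafData).subschemeι ≫ c ≫ ProjSpace.toSpec n R) :=
    (smooth_iso_iff d (asIso (⊥ : X.IdealSheafData).subschemeι) _).2 inferInstance
  obtain ⟨Z, -, hZT, hZs⟩ := exists_curve c T hT (d - 1) ⊥ bot_le (by rwa [Nat.sub_add_cancel hd])
  obtain ⟨H, hH, hHs⟩ := exists_hypersurface_of_le c (κ := Bool) (fun b => cond b ⊥ Z) (fun b => cond b d 1)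
    (fun b => by cases b <;> assumption) C 0 hC (fun b => by cases b; exacts [Nat.one_pos, hd])
  refine ⟨Z, H, hZs, ?_, hZT, hH, ?_⟩
  · have h1 : SmoothOfRelativeDimension (d - 1) (((⊥ : X.IdealSheafData) ⊔ H).subschemeι ≫ c ≫ ProjSpace.toSpec n R) :=
      hHs true
    rwa [bot_sup_eq] at h1
  · exact hHs false

end Curve

end K989.RBProj
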