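import Groth.Agent.An.H548.Chart
import Groth.Agent.An.H548.RelDim
import Mathlib.RingTheory.Smooth.StandardSmoothCotangent
import Mathlib.RingTheory.RingHom.StandardSmooth
import Mathlib.Algebra.MvPolynomial.Funext
import Mathlib.RingTheory.LocalRing.ResidueField.Basic

/-!
# Generic members of a linear system on an affine chart

* `exists_generic` : over an infinite field `k`, a linear system spanned by `x_i` on a standard smooth `k`-algebra
  containing a unit `u` and such that the `D (x_i / u)` span the differentials: the members which are singular at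
  some point satisfy a non-trivial algebraic equation.
* `exists_chart` : the relative form over a local ring.
* `exists_point` : the condition at one point of the base locus.
-/

set_option autoImplicit false
universe u

open TensorProduct KaehlerDifferential IsLocalRing

namespace K989.RBGeneric

section Field

variable {k : Type u} [Field k] [Infinite k] {E : Type u} [CommRing E] [Algebra k E]

theorem exists_generic {ι : Type} [Fintype ι] [DecidableEq ι] (r : ℕ)
    (hE : Algebra.IsStandardSmoothOfRelativeDimension r k E) (x : ι → E) (i₀ : ι) (u v : E) (huv : v * u = 1)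
    (hx : x i₀ = u) (hspan : Submodule.span E (Set.range fun i => D k E (v * x i)) = ⊤) :
    ∃ G : MvPolynomial ι k, G ≠ 0 ∧ ∀ (q : Ideal E) [q.IsPrime] (a : ι → k),
      (∑ i, algebraMap k E (a i) * x i) ∈ q →
      (1 : q.ResidueField) ⊗ₜ[E] D k E (∑ i, algebraMap k E (a i) * x i) = 0 → MvPolynomial.eval a G = 0 := by
  classical
  rcases subsingleton_or_nontrivial E with hE' | hE'
  · refine ⟨1, one_ne_zero, fun q hq a _ _ => ?_⟩
    exfalso
    exact hq.ne_top ((Ideal.eq_top_iff_one q).2 (by rw [Subsingleton.elim (1 : E) 0]; exact zero_mem q))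
  have hss : Algebra.IsStandardSmooth k E := hE.isStandardSmooth r
  have hfr : Module.Free E Ω[E⁄k] := inferInstance
  have hsm : Algebra.Smooth k E := inferInstance
  have hfi : Module.Finite E Ω[E⁄k] := inferInstance
  have hrk : Module.finrank E Ω[E⁄k] = r := Module.finrank_eq_of_rank_eq hE.rank_kaehlerDifferential
  let b : Module.Basis (Fin r) E Ω[E⁄k] := (Module.finBasis E Ω[E⁄k]).reindex (finCongr hrk)
  let e : ι ≃ Fin (Fintype.card ι) := Fintype.equivFin ι
  have hspan' : Submodule.span E (Set.range fun i : Fin (Fintype.card ι) => D k E (v * x (e.symm i))) = ⊤ := by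
    rw [← hspan]
    congr 1
    exact e.symm.surjective.range_comp (fun i => D k E (v * x i))
  obtain ⟨G₀, hG0, hG⟩ := Groth.Agent.An.H548.Chart.exists_equation (fun i => v * x (e.symm i)) b hspan'
    (fun p _ => Groth.Agent.An.H548.RelDim.trdeg_residueField_le r
      (by rw [RingHom.isStandardSmoothOfRelativeDimension_algebraMap]; exact hE) p)
  obtain ⟨a₀, ha₀⟩ : ∃ a₀ : Fin (Fintype.card ι + 1) → k, MvPolynomial.eval a₀ G₀ ≠ 0 := by
    by_contra hcon
    push Not at hcon
    exact hG0 (MvPolynomial.funext fun a => by rw [hcon a, map_zero])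
  let sub : Fin (Fintype.card ι + 1) → MvPolynomial ι k :=
    Fin.cons (MvPolynomial.C (a₀ 0)) fun i =>
      MvPolynomial.X (e.symm i) - MvPolynomial.C (if e.symm i = i₀ then a₀ 0 else 0)
  have heval : ∀ a : ι → k, MvPolynomial.eval a (MvPolynomial.bind₁ sub G₀) =
      MvPolynomial.eval (Fin.cons (a₀ 0) fun i => a (e.symm i) - (if e.symm i = i₀ then a₀ 0 else 0)) G₀ := by
    intro a
    rw [MvPolynomial.eval, MvPolynomial.eval₂Hom_bind₁]
    congr 2
    funext i
    refine Fin.cases ?_ (fun i => ?_) i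
    · simp [sub]
    · simp [sub]
  refine ⟨MvPolynomial.bind₁ sub G₀, ?_, ?_⟩
  · intro h0
    have h1 := heval (fun i => a₀ (e i).succ + (if i = i₀ then a₀ 0 else 0))
    rw [h0, map_zero] at h1
    apply ha₀
    rw [h1]
    congr 2
    funext i
    refine Fin.cases ?_ (fun i => ?_) i
    · simp
    · simp
  · intro q _ a hq hd
    rw [heval]
    have key : algebraMap k E ((Fin.cons (a₀ 0) fun i => a (e.symm i) - (if e.symm i = i₀ then a₀ 0 else 0) :
          Fin (Fintype.card ι + 1) → k) 0) + ∑ i : Fin (Fintype.card ι),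
        algebraMap k E ((Fin.cons (a₀ 0) fun i => a (e.symm i) - (if e.symm i = i₀ then a₀ 0 else 0) :
          Fin (Fintype.card ι + 1) → k) i.succ) * (v * x (e.symm i)) = v * ∑ i, algebraMap k E (a i) * x i := by
      simp only [Fin.cons_zero, Fin.cons_succ, map_sub, sub_mul, Finset.sum_sub_distrib]
      rw [← e.symm.sum_comp (fun i => algebraMap k E (a i) * x i), Finset.mul_sum]
      have h1 : ∑ i : Fin (Fintype.card ι), algebraMap k E (if e.symm i = i₀ then a₀ 0 else 0) * (v * x (e.symm i)) =
          algebraMap k E (a₀ 0) := by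
        rw [Finset.sum_eq_single (e i₀)]
        · simp [hx, huv]
        · intro i _ hi
          have : e.symm i ≠ i₀ := fun h => hi (by rw [← h, e.apply_symm_apply])
          simp [this]
        · simp
      rw [h1]
      have h2 : ∀ i : Fin (Fintype.card ι), algebraMap k E (a (e.symm i)) * (v * x (e.symm i)) =
          v * (algebraMap k E (a (e.symm i)) * x (e.symm i)) := fun i => by ring
      simp only [h2]
      ring
    refine hG q _ ?_ ?_
    · rw [key]; exact Ideal.mul_mem_left _ _ hq
    · rw [key, Derivation.leibniz, tmul_add, tmul_smul, hd, smul_zero, zero_add, ← smul_tmul]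
      have h3 : (∑ i, algebraMap k E (a i) * x i) • (1 : q.ResidueField) = 0 := by
        rw [Algebra.smul_def, mul_one, ← RingHom.mem_ker, Ideal.ker_algebraMap_residueField]
        exact hq
      rw [h3, zero_tmul]

end Field

section Transfer

theorem transfer {R : Type u} [CommRing R] {k : Type u} [Field k] [Algebra R k] {B E : Type u} [CommRing B]
    [Algebra R B] [CommRing E] [Algebra k E] [Algebra R E] [IsScalarTower R k E] [Algebra B E] [IsScalarTower R B E]
    (p : Ideal B) [p.IsPrime] (q : Ideal E) [q.IsPrime] (hq : p = q.comap (algebraMap B E)) (h : B)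
    (hd : (1 : p.ResidueField) ⊗ₜ[B] D R B h = 0) :
    (1 : q.ResidueField) ⊗ₜ[E] D k E (algebraMap B E h) = 0 := by
  let fK : p.ResidueField →ₐ[B] q.ResidueField := Ideal.ResidueField.mapₐ p q (Algebra.ofId B E) hq
  let M1 : p.ResidueField ⊗[B] Ω[B⁄R] →ₗ[B] q.ResidueField ⊗[B] Ω[E⁄k] :=
    TensorProduct.map fK.toLinearMap (KaehlerDifferential.map R k B E)
  let M2 := TensorProduct.mapOfCompatibleSMul E B B q.ResidueField Ω[E⁄k]
  have h1 := congrArg (fun w => M2 (M1 w)) hd
  simp only [map_zero] at h1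
  rw [← h1]
  simp only [M1, M2, TensorProduct.map_tmul, TensorProduct.mapOfCompatibleSMul_tmul, KaehlerDifferential.map_D]
  congr 1
  exact (map_one fK).symm

/-- The differentials of a base change of a localization are generated by the differentials of generators. -/
theorem D_mem {R : Type u} [CommRing R] {k : Type u} [Field k] [Algebra R k] {B L : Type u} [CommRing B]
    [Algebra R B] [CommRing L] [Algebra R L] [Algebra B L] [IsScalarTower R B L] (s : B) [IsLocalization.Away s L]
    {n : ℕ} (t : Fin n → B) (ht : Function.Surjective (MvPolynomial.aeval t : MvPolynomial (Fin n) R →ₐ[R] B))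
    (N : Submodule (k ⊗[R] L) Ω[(k ⊗[R] L)⁄k])
    (hN : ∀ i, D k (k ⊗[R] L) ((1 : k) ⊗ₜ[R] algebraMap B L (t i)) ∈ N) (e : k ⊗[R] L) :
    D k (k ⊗[R] L) e ∈ N := by
  have h1 : ∀ b : B, D k (k ⊗[R] L) ((1 : k) ⊗ₜ[R] algebraMap B L b) ∈ N := by
    intro b
    obtain ⟨P, rfl⟩ := ht b
    induction P using MvPolynomial.induction_on with
    | C c =>
      rw [MvPolynomial.aeval_C, ← IsScalarTower.algebraMap_apply R B L, Algebra.algebraMap_eq_smul_one,
        ← TensorProduct.smul_tmul, Algebra.smul_def, mul_one]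
      have : ((algebraMap R k c) ⊗ₜ[R] (1 : L)) = algebraMap k (k ⊗[R] L) (algebraMap R k c) := by
        rw [Algebra.TensorProduct.algebraMap_apply]; rfl
      rw [this, Derivation.map_algebraMap]
      exact zero_mem _
    | add P Q hP hQ =>
      rw [map_add, map_add, tmul_add, map_add]
      exact add_mem hP hQ
    | mul_X P i hP =>
      have : ((1 : k) ⊗ₜ[R] algebraMap B L (MvPolynomial.aeval t (P * MvPolynomial.X i))) =
          ((1 : k) ⊗ₜ[R] algebraMap B L (MvPolynomial.aeval t P)) * ((1 : k) ⊗ₜ[R] algebraMap B L (t i)) := by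
        rw [Algebra.TensorProduct.tmul_mul_tmul, mul_one, map_mul, map_mul, MvPolynomial.aeval_X]
      rw [this, Derivation.leibniz]
      exact add_mem (Submodule.smul_mem _ _ (hN i)) (Submodule.smul_mem _ _ hP)
  have h2 : ∀ l : L, D k (k ⊗[R] L) ((1 : k) ⊗ₜ[R] l) ∈ N := by
    intro l
    obtain ⟨b, c, rfl⟩ := IsLocalization.exists_mk'_eq (Submonoid.powers s) l
    let y : k ⊗[R] L := (1 : k) ⊗ₜ[R] algebraMap B L c
    have hu : IsUnit y := (IsLocalization.map_units L c).map (Algebra.TensorProduct.includeRight : L →ₐ[R] k ⊗[R] L)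
    have h3 : y * ((1 : k) ⊗ₜ[R] IsLocalization.mk' L b c) = (1 : k) ⊗ₜ[R] algebraMap B L b := by
      rw [Algebra.TensorProduct.tmul_mul_tmul, mul_one, IsLocalization.mk'_spec']
    have h4 := h1 b
    rw [← h3, Derivation.leibniz] at h4
    have h5 : y • D k (k ⊗[R] L) ((1 : k) ⊗ₜ[R] IsLocalization.mk' L b c) ∈ N := by
      have := sub_mem h4 (Submodule.smul_mem N ((1 : k) ⊗ₜ[R] IsLocalization.mk' L b c) (h1 c))
      simpa [y] using this
    exact (Submodule.smul_mem_iff_of_isUnit N hu).1 h5
  induction e using TensorProduct.induction_on with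
  | zero => rw [map_zero]; exact zero_mem _
  | tmul c l =>
    have : c ⊗ₜ[R] l = c • ((1 : k) ⊗ₜ[R] l) := by rw [TensorProduct.smul_tmul', smul_eq_mul, mul_one]
    rw [this, Derivation.map_smul]
    exact N.smul_of_tower_mem c (h2 l)
  | add a b ha hb => rw [map_add]; exact add_mem ha hb

end Transfer

/-- The algebra structure through the right factor. -/
noncomputable abbrev rAlg {R : Type u} [CommRing R] (k : Type u) [CommRing k] [Algebra R k] (B L : Type u)
    [CommRing B] [Algebra R B] [CommRing L] [Algebra R L] [Algebra B L] : Algebra B (k ⊗[R] L) :=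
  RingHom.toAlgebra ((Algebra.TensorProduct.includeRight : L →ₐ[R] k ⊗[R] L).toRingHom.comp (algebraMap B L))

theorem rAlg_tower {R : Type u} [CommRing R] (k : Type u) [CommRing k] [Algebra R k] (B L : Type u) [CommRing B]
    [Algebra R B] [CommRing L] [Algebra R L] [Algebra B L] [IsScalarTower R B L] :
    @IsScalarTower R B (k ⊗[R] L) _ (rAlg (R := R) k B L).toSMul _ := by
  let _ := rAlg (R := R) k B L
  refine IsScalarTower.of_algebraMap_eq (R := R) (S := B) (A := k ⊗[R] L) fun c => ?_
  have h : algebraMap B (k ⊗[R] L) (algebraMap R B c) = (1 : k) ⊗ₜ[R] algebraMap B L (algebraMap R B c) := rfl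
  rw [h, ← IsScalarTower.algebraMap_apply R B L]
  exact ((Algebra.TensorProduct.includeRight : L →ₐ[R] k ⊗[R] L).commutes c).symm

section Chart

variable {R : Type u} [CommRing R] [IsLocalRing R] {B : Type u} [CommRing B] [Algebra R B] {m n : ℕ}

/-- The member `∑ λ_{jl} f_j t_l` of the linear system. -/
noncomputable def mem (f : Fin m → B) (t : Fin n → B) (c : Fin m × Fin n → R) : B :=
  ∑ σ, algebraMap R B (c σ) * (f σ.1 * t σ.2)

/-- Primes of `B` over the maximal ideal of `R` lift to the fibre of a localization. -/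
theorem exists_prime {L : Type u} [CommRing L] [Algebra R L] [Algebra B L] [IsScalarTower R B L] (s : B)
    [IsLocalization.Away s L] (p : Ideal B) [p.IsPrime] (hp : maximalIdeal R ≤ p.comap (algebraMap R B)) (hs : s ∉ p) :
    ∃ q : Ideal (ResidueField R ⊗[R] L), q.IsPrime ∧
      p = q.comap ((Algebra.TensorProduct.includeRight : L →ₐ[R] ResidueField R ⊗[R] L).toRingHom.comp
        (algebraMap B L)) := by
  let f₁ : ResidueField R →ₐ[R] p.ResidueField :=
    Ideal.Quotient.liftₐ (maximalIdeal R) (Algebra.ofId R p.ResidueField) (fun a ha => by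
      have h1 : algebraMap R B a ∈ p := hp ha
      change algebraMap R p.ResidueField a = 0
      rw [IsScalarTower.algebraMap_apply R B p.ResidueField]
      exact Ideal.algebraMap_residueField_eq_zero.2 h1)
  have hu : IsUnit (algebraMap B p.ResidueField s) := by
    rw [isUnit_iff_ne_zero, Ne, Ideal.algebraMap_residueField_eq_zero]
    exact hs
  let f₂' : L →+* p.ResidueField := IsLocalization.Away.lift s hu
  have hf₂ : ∀ b : B, f₂' (algebraMap B L b) = algebraMap B p.ResidueField b := fun b =>
    IsLocalization.Away.lift_eq s hu b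
  let f₂ : L →ₐ[R] p.ResidueField := { f₂' with
    commutes' := fun c => by
      change f₂' (algebraMap R L c) = _
      rw [IsScalarTower.algebraMap_apply R B L, hf₂, ← IsScalarTower.algebraMap_apply] }
  let ψ : ResidueField R ⊗[R] L →ₐ[R] p.ResidueField := Algebra.TensorProduct.lift f₁ f₂ (fun _ _ => Commute.all _ _)
  refine ⟨RingHom.ker ψ, RingHom.ker_isPrime _, ?_⟩
  ext b
  rw [Ideal.mem_comap, RingHom.mem_ker]
  have : ψ ((Algebra.TensorProduct.includeRight : L →ₐ[R] ResidueField R ⊗[R] L).toRingHom.comp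
        (algebraMap B L) b) = algebraMap B p.ResidueField b := by
    change ψ ((1 : ResidueField R) ⊗ₜ[R] algebraMap B L b) = _
    rw [Algebra.TensorProduct.lift_tmul, map_one, one_mul]
    exact hf₂ b
  rw [this, Ideal.algebraMap_residueField_eq_zero]

variable [Infinite (ResidueField R)]

omit [IsLocalRing R] [Infinite (ResidueField R)] in
theorem exists_chart_aux {k : Type u} [Field k] [Infinite k] [Algebra R k] {E : Type u} [CommRing E] [Algebra k E]
    [Algebra R E] [IsScalarTower R k E] [Algebra B E] [IsScalarTower R B E] (e : ℕ)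
    (hE : Algebra.IsStandardSmoothOfRelativeDimension e k E) (t : Fin n → B) (i₀ : Fin n) (hti : t i₀ = 1)
    (f : Fin m → B) (j : Fin m) (huf : IsUnit (algebraMap B E (f j)))
    (hspan : ∀ N : Submodule E Ω[E⁄k], (∀ l, D k E (algebraMap B E (t l)) ∈ N) → ∀ x, D k E x ∈ N) :
    ∃ G : MvPolynomial (Fin m × Fin n) k, G ≠ 0 ∧
      ∀ (q : Ideal E) [q.IsPrime] (p : Ideal B) [p.IsPrime] (_ : p = q.comap (algebraMap B E))
        (c : Fin m × Fin n → R), mem f t c ∈ p → (1 : p.ResidueField) ⊗ₜ[B] D R B (mem f t c) = 0 →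
        MvPolynomial.eval (fun σ => algebraMap R k (c σ)) G = 0 := by
  classical
  obtain ⟨v, hv⟩ := huf.exists_left_inv
  have hspan' : Submodule.span E (Set.range fun σ : Fin m × Fin n =>
      D k E (v * algebraMap B E (f σ.1 * t σ.2))) = ⊤ := by
    rw [eq_top_iff, ← KaehlerDifferential.span_range_derivation k E, Submodule.span_le]
    rintro _ ⟨x, rfl⟩
    refine hspan _ (fun l => ?_) x
    refine Submodule.subset_span ⟨(j, l), ?_⟩
    have h1 : v * algebraMap B E (f j * t l) = algebraMap B E (t l) := by rw [map_mul, ← mul_assoc, hv, one_mul]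
    change D k E (v * algebraMap B E (f j * t l)) = D k E (algebraMap B E (t l))
    rw [h1]
  obtain ⟨G, hG0, hG⟩ := exists_generic e hE (fun σ : Fin m × Fin n => algebraMap B E (f σ.1 * t σ.2)) (j, i₀)
    (algebraMap B E (f j)) v hv (by rw [hti, mul_one]) hspan'
  refine ⟨G, hG0, fun q _ p _ hq c hc hd => ?_⟩
  have hmem : algebraMap B E (mem f t c) =
      ∑ σ : Fin m × Fin n, algebraMap k E (algebraMap R k (c σ)) * algebraMap B E (f σ.1 * t σ.2) := by
    rw [mem, map_sum]
    refine Finset.sum_congr rfl fun σ _ => ?_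
    rw [map_mul, ← IsScalarTower.algebraMap_apply R B E, IsScalarTower.algebraMap_apply R k E]
  refine hG q _ ?_ ?_
  · rw [← hmem]
    have h1 : mem f t c ∈ q.comap (algebraMap B E) := by rw [← hq]; exact hc
    exact h1
  · rw [← hmem]
    exact transfer p q hq _ hd

theorem exists_chart_loc {L : Type u} [CommRing L] [Algebra R L] [Algebra B L] [IsScalarTower R B L] (s : B)
    [IsLocalization.Away s L] (e : ℕ) [Algebra.IsStandardSmoothOfRelativeDimension e R L] (t : Fin n → B)
    (ht : Function.Surjective (MvPolynomial.aeval t : MvPolynomial (Fin n) R →ₐ[R] B)) (i₀ : Fin n) (hti : t i₀ = 1)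
    (f : Fin m → B) (j : Fin m) (hj : IsUnit (algebraMap B L (f j))) :
    ∃ G : MvPolynomial (Fin m × Fin n) (ResidueField R), G ≠ 0 ∧
      ∀ (p : Ideal B) [p.IsPrime] (c : Fin m × Fin n → R), maximalIdeal R ≤ p.comap (algebraMap R B) →
        s ∉ p → mem f t c ∈ p → (1 : p.ResidueField) ⊗ₜ[B] D R B (mem f t c) = 0 →
        MvPolynomial.eval (fun σ => residue R (c σ)) G = 0 := by
  have hE : Algebra.IsStandardSmoothOfRelativeDimension e (ResidueField R) (ResidueField R ⊗[R] L) := inferInstance
  let _ : Algebra B (ResidueField R ⊗[R] L) := rAlg (ResidueField R) B L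
  have hRE : IsScalarTower R B (ResidueField R ⊗[R] L) := rAlg_tower (ResidueField R) B L
  have huf : IsUnit (algebraMap B (ResidueField R ⊗[R] L) (f j)) :=
    hj.map (Algebra.TensorProduct.includeRight : L →ₐ[R] ResidueField R ⊗[R] L)
  obtain ⟨G, hG0, hG⟩ := exists_chart_aux (R := R) (k := ResidueField R) (E := ResidueField R ⊗[R] L) e hE t i₀ hti f j
    huf (fun N hN x => D_mem s t ht N hN x)
  refine ⟨G, hG0, fun p _ c hp hs hc hd => ?_⟩
  obtain ⟨q, hqp, hq⟩ := exists_prime (L := L) s p hp hs
  exact hG q p hq c hc hd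

/-- The chart polynomial. -/
theorem exists_chart (t : Fin n → B)
    (ht : Function.Surjective (MvPolynomial.aeval t : MvPolynomial (Fin n) R →ₐ[R] B)) (i₀ : Fin n) (hti : t i₀ = 1)
    (f : Fin m → B) (j : Fin m) (e : ℕ) (g : B)
    (hg : (algebraMap R (Localization.Away g)).IsStandardSmoothOfRelativeDimension e) :
    ∃ G : MvPolynomial (Fin m × Fin n) (ResidueField R), G ≠ 0 ∧
      ∀ (p : Ideal B) [p.IsPrime] (c : Fin m × Fin n → R), maximalIdeal R ≤ p.comap (algebraMap R B) →
        g ∉ p → f j ∉ p → mem f t c ∈ p → (1 : p.ResidueField) ⊗ₜ[B] D R B (mem f t c) = 0 →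
        MvPolynomial.eval (fun σ => residue R (c σ)) G = 0 := by
  rw [RingHom.isStandardSmoothOfRelativeDimension_algebraMap] at hg
  have hL0 : Algebra.IsStandardSmoothOfRelativeDimension 0 (Localization.Away g)
      (Localization.Away (algebraMap B (Localization.Away g) (f j))) :=
    Algebra.IsStandardSmoothOfRelativeDimension.localization_away (algebraMap B (Localization.Away g) (f j))
  have hL : Algebra.IsStandardSmoothOfRelativeDimension e R
      (Localization.Away (algebraMap B (Localization.Away g) (f j))) := by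
    have := Algebra.IsStandardSmoothOfRelativeDimension.trans e 0 R (Localization.Away g)
      (Localization.Away (algebraMap B (Localization.Away g) (f j)))
    rwa [Nat.zero_add] at this
  have hj : IsUnit (algebraMap B (Localization.Away (algebraMap B (Localization.Away g) (f j))) (f j)) := by
    rw [IsScalarTower.algebraMap_apply B (Localization.Away g)
      (Localization.Away (algebraMap B (Localization.Away g) (f j)))]
    exact IsLocalization.Away.algebraMap_isUnit (algebraMap B (Localization.Away g) (f j))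
  obtain ⟨G, hG0, hG⟩ := exists_chart_loc (L := Localization.Away (algebraMap B (Localization.Away g) (f j)))
    (f j * g) e t ht i₀ hti f j hj
  refine ⟨G, hG0, fun p _ c hp hgp hfp hc hd => ?_⟩
  exact hG p c hp (fun h => (Ideal.IsPrime.mem_or_mem inferInstance h).elim hfp hgp) hc hd

omit [Infinite (ResidueField R)] in
/-- The condition at a point of the base locus. -/
theorem exists_point (t : Fin n → B) (i₀ : Fin n) (hti : t i₀ = 1) (f : Fin m → B) (j : Fin m) (p : Ideal B)
    [p.IsPrime] (hp : maximalIdeal R ≤ p.comap (algebraMap R B))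
    (hj : (1 : p.ResidueField) ⊗ₜ[B] D R B (f j) ≠ 0) :
    ∃ G : MvPolynomial (Fin m × Fin n) (ResidueField R), G ≠ 0 ∧ ∀ c : Fin m × Fin n → R,
      (1 : p.ResidueField) ⊗ₜ[B] D R B (mem f t c) = 0 → MvPolynomial.eval (fun σ => residue R (c σ)) G = 0 := by
  classical
  let f₁ : ResidueField R →ₐ[R] p.ResidueField :=
    Ideal.Quotient.liftₐ (maximalIdeal R) (Algebra.ofId R p.ResidueField) (fun a ha => by
      have h1 : algebraMap R B a ∈ p := hp ha
      change algebraMap R p.ResidueField a = 0
      rw [IsScalarTower.algebraMap_apply R B p.ResidueField]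
      exact Ideal.algebraMap_residueField_eq_zero.2 h1)
  let _ : Algebra (ResidueField R) p.ResidueField := f₁.toRingHom.toAlgebra
  obtain ⟨φ₀, hφ₀⟩ := Module.Projective.exists_dual_eq_one p.ResidueField hj
  obtain ⟨φ₁, hφ₁⟩ := Module.Projective.exists_dual_eq_one (ResidueField R) (one_ne_zero (α := p.ResidueField))
  have hlin : ∀ c : Fin m × Fin n → R, φ₁ (φ₀ ((1 : p.ResidueField) ⊗ₜ[B] D R B (mem f t c))) =
      ∑ σ, residue R (c σ) * φ₁ (φ₀ ((1 : p.ResidueField) ⊗ₜ[B] D R B (f σ.1 * t σ.2))) := by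
    intro c
    rw [mem, map_sum, tmul_sum, map_sum, map_sum]
    refine Finset.sum_congr rfl fun σ _ => ?_
    rw [← Algebra.smul_def, Derivation.map_smul]
    have h1 : (1 : p.ResidueField) ⊗ₜ[B] (c σ • D R B (f σ.1 * t σ.2)) =
        (algebraMap R p.ResidueField (c σ)) • ((1 : p.ResidueField) ⊗ₜ[B] D R B (f σ.1 * t σ.2)) := by
      rw [algebraMap_smul, tmul_smul]
    rw [h1, map_smul, smul_eq_mul]
    have h2 : algebraMap R p.ResidueField (c σ) = algebraMap (ResidueField R) p.ResidueField (residue R (c σ)) := rfl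
    rw [h2, ← Algebra.smul_def, map_smul, smul_eq_mul]
  refine ⟨∑ σ, MvPolynomial.C (φ₁ (φ₀ ((1 : p.ResidueField) ⊗ₜ[B] D R B (f σ.1 * t σ.2)))) * MvPolynomial.X σ,
    ?_, ?_⟩
  · intro h0
    have h1 := congrArg (MvPolynomial.eval (Pi.single (j, i₀) (1 : ResidueField R))) h0
    rw [map_zero, map_sum, Finset.sum_eq_single (j, i₀)] at h1
    · simp only [map_mul, MvPolynomial.eval_C, MvPolynomial.eval_X, Pi.single_eq_same, mul_one, hti, hφ₀, hφ₁] at h1
      exact one_ne_zero h1
    · intro σ _ hσ
      simp [Pi.single_eq_of_ne hσ]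
    · simp
  · intro c hc
    have h1 := hlin c
    rw [hc, map_zero, map_zero] at h1
    rw [map_sum, h1]
    refine Finset.sum_congr rfl fun σ _ => ?_
    rw [map_mul, MvPolynomial.eval_C, MvPolynomial.eval_X, mul_comm]

/-- The generic member of the linear system on an affine chart is transversal along the special fibre. -/
theorem exists_affine [IsNoetherianRing R] (t : Fin n → B)
    (ht : Function.Surjective (MvPolynomial.aeval t : MvPolynomial (Fin n) R →ₐ[R] B)) (i₀ : Fin n) (hti : t i₀ = 1)
    (f : Fin m → B) (e : ℕ)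
    (hB : ∀ (p : Ideal B) [p.IsPrime], ∃ g ∉ p,
      (algebraMap R (Localization.Away g)).IsStandardSmoothOfRelativeDimension e)
    (hfin : {p : PrimeSpectrum B | maximalIdeal R ≤ p.asIdeal.comap (algebraMap R B) ∧
      ∀ j, f j ∈ p.asIdeal}.Finite)
    (hpt : ∀ (p : Ideal B) [p.IsPrime], maximalIdeal R ≤ p.comap (algebraMap R B) → (∀ j, f j ∈ p) →
      ∃ j, (1 : p.ResidueField) ⊗ₜ[B] D R B (f j) ≠ 0) :
    ∃ G : MvPolynomial (Fin m × Fin n) (ResidueField R), G ≠ 0 ∧ ∀ c : Fin m × Fin n → R,
      MvPolynomial.eval (fun σ => residue R (c σ)) G ≠ 0 → ∀ (p : Ideal B) [p.IsPrime],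
        maximalIdeal R ≤ p.comap (algebraMap R B) → mem f t c ∈ p →
          (1 : p.ResidueField) ⊗ₜ[B] D R B (mem f t c) ≠ 0 := by
  classical
  have hft : Algebra.FiniteType R B := Algebra.FiniteType.iff_quotient_mvPolynomial''.2 ⟨n, MvPolynomial.aeval t, ht⟩
  have hNB : IsNoetherianRing B := Algebra.FiniteType.isNoetherianRing R B
  let 𝒢 : Set B := {g | (algebraMap R (Localization.Away g)).IsStandardSmoothOfRelativeDimension e}
  obtain ⟨T, hT𝒢, hTs⟩ : ∃ T : Finset B, (T : Set B) ⊆ 𝒢 ∧ Ideal.span 𝒢 = Ideal.span (T : Set B) :=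
    Submodule.fg_span_iff_fg_span_finset_subset 𝒢 |>.1 (IsNoetherian.noetherian _)
  have hT : ∀ (p : Ideal B) [p.IsPrime], ∃ g ∈ T, g ∉ p := by
    intro p hp
    by_contra hcon
    push Not at hcon
    obtain ⟨g, hgp, hg⟩ := hB p
    have h1 : Ideal.span 𝒢 ≤ p := by rw [hTs, Ideal.span_le]; exact hcon
    exact hgp (h1 (Ideal.subset_span hg))
  choose! G hG0 hG using fun (g : B) (hg : g ∈ 𝒢) (j : Fin m) => exists_chart t ht i₀ hti f j e g hg
  let S := hfin.toFinset
  have hS : ∀ p : PrimeSpectrum B, ∃ G' : MvPolynomial (Fin m × Fin n) (ResidueField R), G' ≠ 0 ∧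
      (p ∈ S → ∀ c : Fin m × Fin n → R, (1 : p.asIdeal.ResidueField) ⊗ₜ[B] D R B (mem f t c) = 0 →
        MvPolynomial.eval (fun σ => residue R (c σ)) G' = 0) := by
    intro p
    by_cases h : p ∈ S
    · obtain ⟨h1, h2⟩ := hfin.mem_toFinset.1 h
      obtain ⟨j, hj⟩ := hpt p.asIdeal h1 h2
      obtain ⟨G', hG'0, hG'⟩ := exists_point t i₀ hti f j p.asIdeal h1 hj
      exact ⟨G', hG'0, fun _ => hG'⟩
    · exact ⟨1, one_ne_zero, fun h' => absurd h' h⟩
  choose G' hG'0 hG' using hS
  refine ⟨(∏ g ∈ T, ∏ j, G g j) * ∏ p ∈ S, G' p, mul_ne_zero (Finset.prod_ne_zero_iff.2 fun g hg =>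
    Finset.prod_ne_zero_iff.2 fun j _ => hG0 g (hT𝒢 hg) j) (Finset.prod_ne_zero_iff.2 fun p _ => hG'0 p),
    fun c hc p _ hp hmem hd => hc ?_⟩
  rw [map_mul]
  by_cases h : ∀ j, f j ∈ p
  · have hpS : (⟨p, inferInstance⟩ : PrimeSpectrum B) ∈ S := hfin.mem_toFinset.2 ⟨hp, h⟩
    have h1 := hG' ⟨p, inferInstance⟩ hpS c hd
    rw [map_prod (MvPolynomial.eval _) _ S, Finset.prod_eq_zero hpS h1, mul_zero]
  · push Not at h
    obtain ⟨j, hj⟩ := h
    obtain ⟨g, hgT, hgp⟩ := hT p
    have h1 := hG g (hT𝒢 hgT) j p c hp hgp hj hmem hd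
    rw [map_prod (MvPolynomial.eval _) _ T, Finset.prod_eq_zero hgT, zero_mul]
    rw [map_prod]
    exact Finset.prod_eq_zero (Finset.mem_univ j) h1

end Chart

end K989.RBGeneric
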