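import Groth.Agent.RelBert.K989.Jac
import Mathlib.FieldTheory.Perfect
import Mathlib.LinearAlgebra.Dimension.Constructions

/-!
# Points of the base locus with a non-zero differential

`exists_D_ne_zero` : if, locally at a prime `p` over the maximal ideal of `R` whose residue field is separable
algebraic over that of `R`, the ideal `p` is generated by `I`, the maximal ideal of `R` and `s` elements, and the
differentials at `p` have rank `> s`, then some element of `I` has a non-zero differential at `p`.
-/

set_option autoImplicit false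
universe u

open TensorProduct KaehlerDifferential IsLocalRing Polynomial

namespace K989.RBSpan

/-- Locally at `p` the ideal `p` is generated by `I`, the maximal ideal of `R` and `s` elements. -/
def Gen (R : Type u) [CommRing R] [IsLocalRing R] {B : Type u} [CommRing B] [Algebra R B] (s : ℕ)
    (I p : Ideal B) : Prop :=
  ∃ a : Fin s → B, (∀ i, a i ∈ p) ∧
    ∀ x ∈ p, ∃ u ∉ p, u * x ∈ I ⊔ (maximalIdeal R).map (algebraMap R B) ⊔ Ideal.span (Set.range a)

/-- The residue field at `p` is algebraic over `R`. -/
def Alg (R : Type u) [CommRing R] {B : Type u} [CommRing B] [Algebra R B] (p : Ideal B) : Prop :=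
  ∀ b : B, ∃ P : R[X], P.Monic ∧ aeval b P ∈ p

variable {R : Type u} [CommRing R] [IsLocalRing R] {B : Type u} [CommRing B] [Algebra R B]

/-- The map of residue fields. -/
noncomputable def resMap (p : Ideal B) [p.IsPrime] (hp : maximalIdeal R ≤ p.comap (algebraMap R B)) :
    ResidueField R →ₐ[R] p.ResidueField :=
  Ideal.Quotient.liftₐ (maximalIdeal R) (Algebra.ofId R p.ResidueField) (fun a ha => by
    have h1 : algebraMap R B a ∈ p := hp ha
    change algebraMap R p.ResidueField a = 0
    rw [IsScalarTower.algebraMap_apply R B p.ResidueField]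
    exact Ideal.algebraMap_residueField_eq_zero.2 h1)

theorem exists_aeval_mem [PerfectField (ResidueField R)] (p : Ideal B) [p.IsPrime]
    (hp : maximalIdeal R ≤ p.comap (algebraMap R B)) (halg : Alg R p) (b : B) :
    ∃ Q : R[X], aeval b Q ∈ p ∧ aeval b (derivative Q) ∉ p := by
  obtain ⟨P, hP, hPb⟩ := halg b
  let _ : Algebra (ResidueField R) p.ResidueField := (resMap p hp).toRingHom.toAlgebra
  have ht : IsScalarTower R (ResidueField R) p.ResidueField := IsScalarTower.of_algebraMap_eq fun c =>
    ((resMap p hp).commutes c).symm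
  let β : p.ResidueField := algebraMap B p.ResidueField b
  have hev : ∀ Q : R[X], algebraMap B p.ResidueField (aeval b Q) = aeval β (Q.map (algebraMap R (ResidueField R))) := by
    intro Q
    rw [aeval_map_algebraMap, ← aeval_algebraMap_apply]
  have hint : IsIntegral (ResidueField R) β := by
    refine ⟨P.map (algebraMap R (ResidueField R)), hP.map _, ?_⟩
    change aeval β (P.map (algebraMap R (ResidueField R))) = 0
    rw [← hev, Ideal.algebraMap_residueField_eq_zero]
    exact hPb
  have hsep : (minpoly (ResidueField R) β).Separable :=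
    PerfectField.separable_of_irreducible (minpoly.irreducible hint)
  obtain ⟨Q, hQ⟩ := Polynomial.map_surjective (algebraMap R (ResidueField R)) residue_surjective
    (minpoly (ResidueField R) β)
  refine ⟨Q, ?_, ?_⟩
  · rw [← Ideal.algebraMap_residueField_eq_zero, hev, hQ, minpoly.aeval]
  · rw [← Ideal.algebraMap_residueField_eq_zero, hev, ← derivative_map, hQ]
    obtain ⟨a, c, hac⟩ := hsep
    intro h0
    have h1 := congrArg (aeval β) hac
    rw [map_add, map_mul, map_mul, minpoly.aeval, h0, mul_zero, mul_zero, add_zero, map_one] at h1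
    exact zero_ne_one h1

/-- The subspace spanned by the differentials of elements of `p` is everything. -/
theorem one_tmul_D_mem [PerfectField (ResidueField R)] (p : Ideal B) [p.IsPrime]
    (hp : maximalIdeal R ≤ p.comap (algebraMap R B)) (halg : Alg R p)
    (N : Submodule p.ResidueField (p.ResidueField ⊗[B] Ω[B⁄R]))
    (hN : ∀ x ∈ p, (1 : p.ResidueField) ⊗ₜ[B] D R B x ∈ N) : N = ⊤ := by
  have h1 : ∀ b : B, (1 : p.ResidueField) ⊗ₜ[B] D R B b ∈ N := by
    intro b
    obtain ⟨Q, hQ, hQ'⟩ := exists_aeval_mem p hp halg b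
    have h2 := hN _ hQ
    rw [Derivation.map_aeval, tmul_smul, ← algebraMap_smul (A := p.ResidueField)] at h2
    have hu : IsUnit (algebraMap B p.ResidueField (aeval b (derivative Q))) := by
      rw [isUnit_iff_ne_zero, Ne, Ideal.algebraMap_residueField_eq_zero]
      exact hQ'
    exact (Submodule.smul_mem_iff_of_isUnit N hu).1 h2
  rw [eq_top_iff]
  intro x _
  induction x using TensorProduct.induction_on with
  | zero => exact zero_mem _
  | tmul c w =>
    have h3 : w ∈ Submodule.span B (Set.range (D R B)) := by
      rw [KaehlerDifferential.span_range_derivation]; trivial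
    have h4 : c ⊗ₜ[B] w = c • ((1 : p.ResidueField) ⊗ₜ[B] w) := by
      rw [TensorProduct.smul_tmul', smul_eq_mul, mul_one]
    rw [h4]
    refine Submodule.smul_mem _ _ ?_
    induction h3 using Submodule.span_induction with
    | mem y hy => obtain ⟨b, rfl⟩ := hy; exact h1 b
    | zero => rw [tmul_zero]; exact zero_mem _
    | add y z _ _ hy hz => rw [tmul_add]; exact add_mem (hy trivial (by simp [TensorProduct.smul_tmul'])) (hz trivial (by simp [TensorProduct.smul_tmul']))
    | smul a y _ hy =>
      rw [tmul_smul, ← algebraMap_smul (A := p.ResidueField)]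
      exact Submodule.smul_mem _ _ (hy trivial (by simp [TensorProduct.smul_tmul']))
  | add y z hy hz => exact add_mem (hy trivial) (hz trivial)

theorem exists_D_ne_zero [PerfectField (ResidueField R)] (p : Ideal B) [p.IsPrime]
    (hp : maximalIdeal R ≤ p.comap (algebraMap R B)) (halg : Alg R p) (I : Ideal B) (hI : I ≤ p) (s : ℕ)
    (hgen : Gen R s I p) (hs : s < Module.finrank p.ResidueField (p.ResidueField ⊗[B] Ω[B⁄R])) :
    ∃ z ∈ I, (1 : p.ResidueField) ⊗ₜ[B] D R B z ≠ 0 := by
  by_contra hcon
  push Not at hcon
  obtain ⟨a, ha, hgen⟩ := hgen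
  let N : Submodule p.ResidueField (p.ResidueField ⊗[B] Ω[B⁄R]) :=
    Submodule.span _ (Set.range fun i => (1 : p.ResidueField) ⊗ₜ[B] D R B (a i))
  have hmul : ∀ (x y : B), x ∈ p → y ∈ p ∨ (1 : p.ResidueField) ⊗ₜ[B] D R B x ∈ N → (1 : p.ResidueField) ⊗ₜ[B] D R B (y * x) ∈ N := by
    intro x y hx hy
    have h0 : (1 : p.ResidueField) ⊗ₜ[B] (x • D R B y) = 0 := by
      rw [tmul_smul, ← algebraMap_smul (A := p.ResidueField), Ideal.algebraMap_residueField_eq_zero.2 hx, zero_smul]
    rw [Derivation.leibniz, tmul_add, h0, add_zero, tmul_smul, ← algebraMap_smul (A := p.ResidueField)]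
    rcases hy with hy | hy
    · rw [Ideal.algebraMap_residueField_eq_zero.2 hy, zero_smul]; exact zero_mem _
    · exact Submodule.smul_mem _ _ hy
  have hN : N = ⊤ := by
    refine one_tmul_D_mem p hp halg N fun x hx => ?_
    obtain ⟨u, hu, hux⟩ := hgen x hx
    have key : ∀ w ∈ I ⊔ (maximalIdeal R).map (algebraMap R B) ⊔ Ideal.span (Set.range a),
        w ∈ p ∧ (1 : p.ResidueField) ⊗ₜ[B] D R B w ∈ N := by
      have hle : I ⊔ (maximalIdeal R).map (algebraMap R B) ⊔ Ideal.span (Set.range a) ≤ p := by
        refine sup_le (sup_le hI (Ideal.map_le_iff_le_comap.2 hp)) (Ideal.span_le.2 ?_)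
        rintro _ ⟨i, rfl⟩
        exact ha i
      intro w hw
      refine ⟨hle hw, ?_⟩
      obtain ⟨v, hv, z, hz, rfl⟩ := Submodule.mem_sup.1 hw
      obtain ⟨y, hy, m, hm, rfl⟩ := Submodule.mem_sup.1 hv
      rw [map_add, map_add, tmul_add, tmul_add]
      refine add_mem (add_mem ?_ ?_) ?_
      · rw [hcon y hy]; exact zero_mem _
      · have hmm : ∀ c ∈ (maximalIdeal R).map (algebraMap R B), (1 : p.ResidueField) ⊗ₜ[B] D R B c ∈ N := by
          intro c hc
          have hc' : c ∈ Submodule.span B ((algebraMap R B) '' (maximalIdeal R : Set R)) := hc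
          clear hc
          induction hc' using Submodule.span_induction with
          | mem c hc =>
            obtain ⟨c, _, rfl⟩ := hc
            rw [Derivation.map_algebraMap, tmul_zero]
            exact zero_mem _
          | zero => rw [map_zero, tmul_zero]; exact zero_mem _
          | add c d hc hd h1 h2 =>
            rw [map_add, tmul_add]
            exact add_mem h1 h2
          | smul r c hc h1 =>
            exact hmul c r (hle (Ideal.mem_sup_left (Ideal.mem_sup_right hc))) (Or.inr h1)
        exact hmm m hm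
      · have hz' : z ∈ Submodule.span B (Set.range a) := hz
        clear hw
        induction hz' using Submodule.span_induction with
        | mem c hc =>
          obtain ⟨i, rfl⟩ := hc
          exact Submodule.subset_span ⟨i, rfl⟩
        | zero => rw [map_zero, tmul_zero]; exact zero_mem _
        | add c d hc hd h1 h2 =>
          rw [map_add, tmul_add]
          exact add_mem (h1 hc) (h2 hd)
        | smul r c hc h1 => exact hmul c r (hle (Ideal.mem_sup_right hc)) (Or.inr (h1 hc))
    have h1 := (key _ hux).2
    rw [Derivation.leibniz, tmul_add] at h1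
    have h0 : (1 : p.ResidueField) ⊗ₜ[B] (x • D R B u) = 0 := by
      rw [tmul_smul, ← algebraMap_smul (A := p.ResidueField), Ideal.algebraMap_residueField_eq_zero.2 hx, zero_smul]
    rw [h0, add_zero, tmul_smul, ← algebraMap_smul (A := p.ResidueField)] at h1
    have huu : IsUnit (algebraMap B p.ResidueField u) := by
      rw [isUnit_iff_ne_zero, Ne, Ideal.algebraMap_residueField_eq_zero]
      exact hu
    exact (Submodule.smul_mem_iff_of_isUnit N huu).1 h1
  have h5 : Module.finrank p.ResidueField (p.ResidueField ⊗[B] Ω[B⁄R]) ≤ s := by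
    have h6 := finrank_range_le_card (R := p.ResidueField) (fun i => (1 : p.ResidueField) ⊗ₜ[B] D R B (a i))
    rw [Set.finrank, Fintype.card_fin] at h6
    have h7 : Submodule.span p.ResidueField (Set.range fun i => (1 : p.ResidueField) ⊗ₜ[B] D R B (a i)) = ⊤ := hN
    rwa [h7, finrank_top] at h6
  omega

omit [IsLocalRing R] in
/-- The rank of the differentials at a point. -/
theorem finrank_eq (p : Ideal B) [p.IsPrime] (g : B) (hg : g ∉ p) (e : ℕ)
    (h : (algebraMap R (Localization.Away g)).IsStandardSmoothOfRelativeDimension e) :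
    Module.finrank p.ResidueField (p.ResidueField ⊗[B] Ω[B⁄R]) = e := by
  obtain ⟨h1, h2, h3, -⟩ := Groth.Agent.An.H548.JacOne.free_localRing p g hg e h
  have hB2 : Algebra.FormallyEtale B (Localization.AtPrime p) := .of_isLocalization p.primeCompl
  let e₁ := KaehlerDifferential.tensorKaehlerEquivOfFormallyEtale R B (Localization.AtPrime p)
  let e₂ : p.ResidueField ⊗[Localization.AtPrime p] (Localization.AtPrime p ⊗[B] Ω[B⁄R]) ≃ₗ[p.ResidueField]
      p.ResidueField ⊗[B] Ω[B⁄R] :=
    TensorProduct.AlgebraTensorModule.cancelBaseChange B (Localization.AtPrime p) p.ResidueField p.ResidueField Ω[B⁄R]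
  let e₃ : p.ResidueField ⊗[Localization.AtPrime p] (Localization.AtPrime p ⊗[B] Ω[B⁄R]) ≃ₗ[p.ResidueField]
      p.ResidueField ⊗[Localization.AtPrime p] Ω[Localization.AtPrime p⁄R] :=
    TensorProduct.AlgebraTensorModule.congr (LinearEquiv.refl _ _) e₁
  rw [← e₂.finrank_eq, e₃.finrank_eq, Module.finrank_baseChange, h3]

end K989.RBSpan
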