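import Groth.Agent.Vancyc.H543.Hyp
import Groth.Agent.Ega3B.ProjProper
import Groth.Agent.RelBert.K989.Generic
import Groth.Agent.RelBert.K989.Span

/-!
# Linear systems of hypersurfaces through a closed subscheme of projective space over a local ring
-/

set_option autoImplicit false
universe u

open CategoryTheory CategoryTheory.Limits AlgebraicGeometry MvPolynomial CohB1

namespace K989.RBProj

open Groth.Agent.Fga.QD1Sch Groth.Agent.Fga.QD1Alg Groth.Agent.Picfga.IdealDescent
open Groth.Agent.CohqB.ProjBC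

variable {n : ℕ} {R : Type u} [CommRing R]

/-- The algebra structure of the chart rings. -/
noncomputable abbrev rcAlg (n : ℕ) (R : Type u) [CommRing R] (i : Fin (n + 1)) : Algebra R (Rc n R i) :=
  (awayAlg n (X i)).toAlgebra

attribute [local instance] rcAlg

theorem aeval_X_chart (i : Fin (n + 1)) (f : P n R) :
    aeval (fun j => chartHom n i (X j : P n R)) f = chartHom n i f := by
  have h : (aeval (fun j => chartHom n i (X j : P n R)) : P n R →ₐ[R] Rc n R i).toRingHom = chartHom n i := by
    refine MvPolynomial.ringHom_ext (fun r => ?_) (fun j => ?_)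
    · change aeval _ (C r) = _
      rw [aeval_C, chartHom_C]
      rfl
    · change aeval _ (X j) = _
      rw [aeval_X]
  exact congrArg (fun g => g f) (congrArg DFunLike.coe h)

theorem toI_sup {S : Type u} [CommRing S] (I J : (Spec (CommRingCat.of S)).IdealSheafData) :
    toI (I ⊔ J) = toI I ⊔ toI J := by
  rw [toI, toI, toI, ← Ideal.map_sup]
  rfl

theorem toI_inf {S : Type u} [CommRing S] (I J : (Spec (CommRingCat.of S)).IdealSheafData) :
    toI (I ⊓ J) = toI I ⊓ toI J := by
  have h : ∀ K : (Spec (CommRingCat.of S)).IdealSheafData, toI K =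
      (K.ideal ⟨⊤, isAffineOpen_top _⟩).comap (Scheme.ΓSpecIso (CommRingCat.of S)).inv.hom := by
    intro K
    exact Ideal.map_comap_of_equiv (Scheme.ΓSpecIso (CommRingCat.of S)).commRingCatIsoToRingEquiv
  rw [h, h, h, ← Ideal.comap_inf]
  rfl

theorem chI_sup (I J : (ProjSpace n R).IdealSheafData) (i : Fin (n + 1)) : chI (I ⊔ J) i = chI I i ⊔ chI J i := by
  rw [chI, Scheme.IdealSheafData.comap_sup, toI_sup]
  rfl

theorem chI_inf (I J : (ProjSpace n R).IdealSheafData) (i : Fin (n + 1)) : chI (I ⊓ J) i = chI I i ⊓ chI J i := by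
  rw [chI, Groth.Agent.Picfga.IdealGlue.comap_inf_of_isOpenImmersion, toI_inf]
  rfl

theorem chI_mono {I J : (ProjSpace n R).IdealSheafData} (h : I ≤ J) (i : Fin (n + 1)) : chI I i ≤ chI J i := by
  rw [← sup_eq_right, ← chI_sup, sup_eq_right.2 h]

theorem le_of_chI {I J : (ProjSpace n R).IdealSheafData} (h : ∀ i, chI I i ≤ chI J i) : I ≤ J := by
  rw [← sup_eq_right]
  exact ext_of_chI fun i => by rw [chI_sup, sup_eq_right]; exact h i

/-- Generators of the same degree of a closed subscheme of projective space. -/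
theorem exists_forms [IsNoetherianRing R] (I : (ProjSpace n R).IdealSheafData) :
    ∃ (m μ : ℕ) (F : Fin m → P n R), (∀ j, (F j).IsHomogeneous μ) ∧
      ∀ i, chI I i = Ideal.span (Set.range fun j => chartHom n i (F j)) := by
  classical
  obtain ⟨T, hT⟩ : (hI I).FG := IsNoetherian.noetherian _
  let D := T.sup MvPolynomial.totalDegree
  let ι := T × Fin (D + 1) × Fin (n + 1)
  let F' : ι → P n R := fun s => X s.2.2 ^ (D - s.2.1) * homogeneousComponent s.2.1 s.1.1
  let e : ι ≃ Fin (Fintype.card ι) := Fintype.equivFin ι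
  have hF'I : ∀ s : ι, F' s ∈ hI I := fun s => Ideal.mul_mem_left _ _
    (isHom_hI I _ (by rw [← hT]; exact Ideal.subset_span s.1.2) _)
  refine ⟨Fintype.card ι, D, fun j => F' (e.symm j), fun j => ?_, fun i => ?_⟩
  · have h1 := ((isHomogeneous_X R (e.symm j).2.2).pow (D - (e.symm j).2.1)).mul
      (homogeneousComponent_isHomogeneous (e.symm j).2.1 (e.symm j).1.1)
    have h2 : 1 * (D - ((e.symm j).2.1 : ℕ)) + ((e.symm j).2.1 : ℕ) = D := by
      have := (e.symm j).2.1.2
      omega
    rwa [h2] at h1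
  · have hr : (Set.range fun j => chartHom n i (F' (e.symm j))) = Set.range fun s => chartHom n i (F' s) :=
      e.symm.surjective.range_comp (fun s => chartHom n i (F' s))
    rw [hr, ← ch_hI]
    apply le_antisymm
    · rw [ch, ← hT, Ideal.map_span, Ideal.span_le]
      rintro _ ⟨s, hs, rfl⟩
      have hs' : s.totalDegree < D + 1 := Nat.lt_succ_of_le (Finset.le_sup (f := MvPolynomial.totalDegree) hs)
      rw [← sum_range_homogeneousComponent s hs', map_sum]
      refine Ideal.sum_mem _ fun d hd => Ideal.subset_span ⟨(⟨s, hs⟩, ⟨d, Finset.mem_range.1 hd⟩, i), ?_⟩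
      exact chartHom_X_pow_mul i _ _
    · rw [Ideal.span_le]
      rintro _ ⟨s, rfl⟩
      exact Ideal.mem_map_of_mem _ (hF'I s)

/-- The member `∑ c_{jl} F_j T_l` of the linear system. -/
noncomputable def form {m : ℕ} (F : Fin m → P n R) (c : Fin m × Fin (n + 1) → R) : P n R :=
  ∑ σ, C (c σ) * (F σ.1 * X σ.2)

theorem form_homogeneous {m μ : ℕ} {F : Fin m → P n R} (hF : ∀ j, (F j).IsHomogeneous μ)
    (c : Fin m × Fin (n + 1) → R) : (form F c).IsHomogeneous (μ + 1) := by
  refine IsHomogeneous.sum _ _ _ fun σ _ => ?_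
  have := (isHomogeneous_C (Fin (n + 1)) (c σ)).mul ((hF σ.1).mul (isHomogeneous_X R σ.2))
  rwa [Nat.zero_add] at this

theorem chartHom_form {m : ℕ} (F : Fin m → P n R) (c : Fin m × Fin (n + 1) → R) (i : Fin (n + 1)) :
    chartHom n i (form F c) = K989.RBGeneric.mem (fun j => chartHom n i (F j)) (fun l => chartHom n i (X l : P n R)) c := by
  rw [form, K989.RBGeneric.mem, map_sum]
  refine Finset.sum_congr rfl fun σ _ => ?_
  rw [map_mul, map_mul, chartHom_C]
  rfl

theorem exists_H {m μ : ℕ} {F : Fin m → P n R} (hF : ∀ j, (F j).IsHomogeneous μ)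
    (c : Fin m × Fin (n + 1) → R) : ∃ H : (ProjSpace n R).IdealSheafData,
      ∀ i, chI H i = Ideal.span {chartHom n i (form F c)} := by
  obtain ⟨I, hI⟩ := exists_chI_eq (compat_ch (Groth.Agent.Vancyc.H543.Hyp.isHom_span _ (form_homogeneous hF c)))
  refine ⟨I, fun i => ?_⟩
  rw [hI, ch, Ideal.map_span, Set.image_singleton]

end K989.RBProj
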