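import Groth.Agent.RelBert.K989.Proj

/-!
# The chart rings of a smooth closed subscheme of projective space, and the smoothness of its sections
-/

set_option autoImplicit false
universe u

open CategoryTheory CategoryTheory.Limits AlgebraicGeometry MvPolynomial CohB1 TensorProduct KaehlerDifferential
open IsLocalRing (maximalIdeal ResidueField residue)

namespace K989.RBProj

open Groth.Agent.Fga.QD1Sch Groth.Agent.Fga.QD1Alg Groth.Agent.Picfga.IdealDescent
open Groth.Agent.CohqB.ProjBC

attribute [local instance] rcAlg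

section Local

theorem zls (d : ℕ) : IsZariskiLocalAtSource (@SmoothOfRelativeDimension.{u} d) :=
  HasRingHomProperty.instIsZariskiLocalAtSource (P := @SmoothOfRelativeDimension.{u} d)

/-- Smoothness of relative dimension `d` of the spectrum of an algebra, in terms of basic opens. -/
theorem exists_standardSmooth_of_smooth {R : Type u} [CommRing R] {B : Type u} [CommRing B] [Algebra R B] (e : ℕ)
    (h : SmoothOfRelativeDimension e (Spec.map (CommRingCat.ofHom (algebraMap R B)))) (p : Ideal B) [p.IsPrime] :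
    ∃ g ∉ p, (algebraMap R (Localization.Away g)).IsStandardSmoothOfRelativeDimension e := by
  rw [HasRingHomProperty.Spec_iff (P := @SmoothOfRelativeDimension e)] at h
  obtain ⟨s, hs, hst⟩ := h
  obtain ⟨g, hg, hgp⟩ : ∃ g ∈ s, g ∉ p := by
    by_contra hcon
    push Not at hcon
    have h1 : Ideal.span s ≤ p := Ideal.span_le.2 hcon
    rw [hs] at h1
    exact Ideal.IsPrime.ne_top inferInstance (top_le_iff.1 h1)
  refine ⟨g, hgp, ?_⟩
  have h2 := hst g hg
  rwa [IsScalarTower.algebraMap_eq R B (Localization.Away g)]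

/-- A morphism to the spectrum of a local ring which is closed and which is locally smooth of relative dimension `d` at
all points over the closed point is smooth of relative dimension `d`. -/
theorem smooth_of_closed {R : Type u} [CommRing R] [IsLocalRing R] {Y : Scheme.{u}}
    (g : Y ⟶ Spec (CommRingCat.of R)) [UniversallyClosed g] (d : ℕ)
    (h : ∀ y : Y, g y = IsLocalRing.closedPoint R → ∃ (V : Scheme.{u}) (j : V ⟶ Y), IsOpenImmersion j ∧
      y ∈ Set.range j ∧ SmoothOfRelativeDimension d (j ≫ g)) : SmoothOfRelativeDimension d g := by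
  classical
  let U : Set Y := {y | ∃ (V : Scheme.{u}) (j : V ⟶ Y), IsOpenImmersion j ∧
      y ∈ Set.range j ∧ SmoothOfRelativeDimension d (j ≫ g)}
  have hUo : IsOpen U := by
    rw [isOpen_iff_forall_mem_open]
    rintro y ⟨V, j, hj, hy, hs⟩
    exact ⟨Set.range j, fun z hz => ⟨V, j, hj, hz, hs⟩, j.isOpenEmbedding.isOpen_range, hy⟩
  have hU : U = Set.univ := by
    by_contra hne
    obtain ⟨y, hy⟩ : ∃ y, y ∉ U := by
      by_contra hcon
      push Not at hcon
      exact hne (Set.eq_univ_of_forall hcon)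
    have hcl : IsClosed (g '' Uᶜ) := g.isClosedMap _ hUo.isClosed_compl
    have h1 : g y ∈ g '' Uᶜ := ⟨y, hy, rfl⟩
    have h2 : IsLocalRing.closedPoint R ∈ g '' Uᶜ := by
      have h3 : ∀ z : PrimeSpectrum R, z ⤳ IsLocalRing.closedPoint R := fun z => by
        rw [← PrimeSpectrum.le_iff_specializes]
        exact IsLocalRing.le_maximalIdeal (Ideal.IsPrime.ne_top inferInstance)
      have h4 : (g y : Spec (CommRingCat.of R)) ⤳ (IsLocalRing.closedPoint R : PrimeSpectrum R) := h3 (g y)
      exact h4.mem_closed hcl h1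
    obtain ⟨z, hz, hz'⟩ := h2
    exact hz (h z hz')
  choose V j hj hy hs using fun y : Y => (show y ∈ U by rw [hU]; trivial)
  let 𝒰 : Y.OpenCover := Scheme.Cover.mkOfCovers Y V j (fun y => ⟨y, hy y⟩) hj
  have := zls.{u} d
  rw [IsZariskiLocalAtSource.iff_of_openCover (P := @SmoothOfRelativeDimension.{u} d) 𝒰]
  exact hs

end Local

variable {n : ℕ} {R : Type u} [CommRing R]

/-- The chart ring of a closed subscheme. -/
abbrev Bc (W : (ProjSpace n R).IdealSheafData) (i : Fin (n + 1)) : Type u := Rc n R i ⧸ chI W i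

/-- The chart of a closed subscheme. -/
theorem exists_chart (W : (ProjSpace n R).IdealSheafData) (i : Fin (n + 1)) :
    ∃ c : Spec (CommRingCat.of (Bc W i)) ⟶ W.subscheme, IsOpenImmersion c ∧
      IsPullback c (Spec.map (CommRingCat.ofHom (Ideal.Quotient.mk (chI W i)))) W.subschemeι (chartι n i) ∧
      c ≫ W.subschemeι ≫ ProjSpace.toSpec n R = Spec.map (CommRingCat.ofHom (algebraMap R (Bc W i))) := by
  obtain ⟨c, hc⟩ := Groth.Agent.Vancyc.H543.Hyp.exists_isPullback W (chartι n i) (chI W i) rfl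
  refine ⟨c, ?_, hc, ?_⟩
  · exact MorphismProperty.of_isPullback (P := @IsOpenImmersion) hc.flip inferInstance
  · rw [← Category.assoc, hc.w, Category.assoc, chartι_toSpec, ← Spec.map_comp, ← CommRingCat.ofHom_comp]

theorem exists_standardSmooth {W : (ProjSpace n R).IdealSheafData} {e : ℕ}
    (hW : SmoothOfRelativeDimension e (W.subschemeι ≫ ProjSpace.toSpec n R)) (i : Fin (n + 1))
    (p : Ideal (Bc W i)) [p.IsPrime] :
    ∃ g ∉ p, (algebraMap R (Localization.Away g)).IsStandardSmoothOfRelativeDimension e := by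
  obtain ⟨c, hc, -, hc'⟩ := exists_chart W i
  refine exists_standardSmooth_of_smooth e ?_ p
  rw [← hc']
  have := zls.{u} e
  exact IsZariskiLocalAtSource.comp (P := @SmoothOfRelativeDimension.{u} e) hW c

theorem aeval_surjective (W : (ProjSpace n R).IdealSheafData) (i : Fin (n + 1)) :
    Function.Surjective (aeval (fun l => Ideal.Quotient.mk (chI W i) (chartHom n i (X l : P n R))) :
      P n R →ₐ[R] Bc W i) := by
  intro y
  obtain ⟨y, rfl⟩ := Ideal.Quotient.mk_surjective y
  obtain ⟨f, rfl⟩ := chartHom_surjective n i y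
  refine ⟨f, ?_⟩
  rw [← aeval_X_chart i f]
  exact (MvPolynomial.comp_aeval_apply (fun l => chartHom n i (X l : P n R)) (Ideal.Quotient.mkₐ R (chI W i)) f).symm

theorem finiteType (W : (ProjSpace n R).IdealSheafData) (i : Fin (n + 1)) : Algebra.FiniteType R (Bc W i) :=
  Algebra.FiniteType.iff_quotient_mvPolynomial''.2 ⟨n + 1, _, aeval_surjective W i⟩

/-- The hypersurface section is smooth of relative dimension `e - 1`. -/
theorem smooth_section [IsLocalRing R] [IsNoetherianRing R] {W : (ProjSpace n R).IdealSheafData} {e : ℕ}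
    (hW : SmoothOfRelativeDimension e (W.subschemeι ≫ ProjSpace.toSpec n R))
    (H : (ProjSpace n R).IdealSheafData) (h : ∀ i, Rc n R i) (hH : ∀ i, chI H i = Ideal.span {h i})
    (hD : ∀ i, ∀ (p : Ideal (Bc W i)) [p.IsPrime], maximalIdeal R ≤ p.comap (algebraMap R (Bc W i)) →
      Ideal.Quotient.mk (chI W i) (h i) ∈ p →
        (1 : p.ResidueField) ⊗ₜ[Bc W i] D R (Bc W i) (Ideal.Quotient.mk (chI W i) (h i)) ≠ 0) :
    SmoothOfRelativeDimension (e - 1) ((W ⊔ H).subschemeι ≫ ProjSpace.toSpec n R) := by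
  have hproper := Groth.Agent.Ega3B.ProjProper.isProper_toSpec n R
  refine smooth_of_closed _ _ fun y hy => ?_
  obtain ⟨i, z, hz⟩ := exists_chartι_eq ((W ⊔ H).subschemeι y)
  obtain ⟨c, hc, hsq, hcs⟩ := exists_chart (W ⊔ H) i
  obtain ⟨q₀, hq₀, -⟩ := Scheme.exists_preimage_of_isPullback hsq y z hz.symm
  let b : Bc W i := Ideal.Quotient.mk (chI W i) (h i)
  let E := Bc W i ⧸ Ideal.span {b}
  have hE : (chI H i).map (Ideal.Quotient.mkₐ R (chI W i)) = Ideal.span {b} := by
    rw [hH, Ideal.map_span, Set.image_singleton]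
    rfl
  let e₁ : E ≃ₐ[R] Rc n R i ⧸ (chI W i ⊔ chI H i) :=
    (Ideal.quotientEquivAlgOfEq R hE.symm).trans (DoubleQuot.quotQuotEquivQuotSupₐ R (chI W i) (chI H i))
  let e₂ : E ≃ₐ[R] Bc (W ⊔ H) i := e₁.trans (Ideal.quotientEquivAlgOfEq R (chI_sup W H i).symm)
  let q : PrimeSpectrum E := PrimeSpectrum.comap (e₂ : E →+* Bc (W ⊔ H) i) q₀
  have hft : Algebra.FiniteType R (Bc W i) := finiteType W i
  have hq₀' : PrimeSpectrum.comap (algebraMap R (Bc (W ⊔ H) i)) q₀ = IsLocalRing.closedPoint R := by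
    rw [← hy, ← hq₀]
    have h1 := congrArg (fun u => u q₀) (congrArg (fun u => (u.base : _ → _)) hcs)
    exact h1.symm
  have hqR : maximalIdeal R ≤ (q.asIdeal.comap (Ideal.Quotient.mk (Ideal.span {b}))).comap
      (algebraMap R (Bc W i)) := by
    intro a ha
    have h1 : a ∈ (PrimeSpectrum.comap (algebraMap R (Bc (W ⊔ H) i)) q₀).asIdeal := by rw [hq₀']; exact ha
    change e₂ (algebraMap R E a) ∈ q₀.asIdeal
    rw [AlgEquiv.commutes]
    exact h1
  have hbq : b ∈ q.asIdeal.comap (Ideal.Quotient.mk (Ideal.span {b})) := by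
    rw [Ideal.mem_comap, Ideal.Quotient.eq_zero_iff_mem.2 (Ideal.mem_span_singleton_self b)]
    exact zero_mem _
  obtain ⟨g, hg, hstd⟩ := exists_standardSmooth hW i (q.asIdeal.comap (Ideal.Quotient.mk (Ideal.span {b})))
  obtain ⟨f, hf, hfs⟩ := K989.RBJac.exists_standardSmooth_quotient b e q.asIdeal g hg hstd
    (hD i _ hqR hbq)
  let ψ : Bc (W ⊔ H) i →+* E := e₂.symm.toRingEquiv.toRingHom
  let φ : Bc (W ⊔ H) i →+* Localization.Away f := (algebraMap E (Localization.Away f)).comp ψ
  have hφ : Spec.map (CommRingCat.ofHom φ) =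
      Spec.map (CommRingCat.ofHom (algebraMap E (Localization.Away f))) ≫ Spec.map (CommRingCat.ofHom ψ) := by
    rw [← Spec.map_comp, ← CommRingCat.ofHom_comp]
  have hiso : IsIso (Spec.map (CommRingCat.ofHom ψ)) := by
    have : IsIso (CommRingCat.ofHom ψ) := (RingEquiv.toCommRingCatIso e₂.symm.toRingEquiv).isIso_hom
    infer_instance
  have hopen : IsOpenImmersion (Spec.map (CommRingCat.ofHom (algebraMap E (Localization.Away f)))) :=
    IsOpenImmersion.of_isLocalization f
  refine ⟨Spec (CommRingCat.of (Localization.Away f)), Spec.map (CommRingCat.ofHom φ) ≫ c, ?_, ?_, ?_⟩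
  · rw [hφ]; infer_instance
  · obtain ⟨r, hr⟩ : q ∈ Set.range (PrimeSpectrum.comap (algebraMap E (Localization.Away f))) := by
      rw [PrimeSpectrum.localization_away_comap_range (Localization.Away f) f]
      exact hf
    have h1 : (PrimeSpectrum.comap φ r) = PrimeSpectrum.comap ψ q := by
      rw [← hr]; rfl
    have h2 : (PrimeSpectrum.comap φ r) = q₀ := by
      rw [h1]
      apply PrimeSpectrum.ext
      ext x
      change e₂ (e₂.symm x) ∈ q₀.asIdeal ↔ x ∈ q₀.asIdeal
      rw [AlgEquiv.apply_symm_apply]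
    refine ⟨r, ?_⟩
    rw [← hq₀]
    exact congrArg c h2
  · have h1 : (Spec.map (CommRingCat.ofHom φ) ≫ c) ≫ (W ⊔ H).subschemeι ≫ ProjSpace.toSpec n R =
        Spec.map (CommRingCat.ofHom (algebraMap R (Localization.Away f))) := by
      rw [Category.assoc, hcs, ← Spec.map_comp, ← CommRingCat.ofHom_comp]
      congr 2
    rw [h1, HasRingHomProperty.Spec_iff (P := @SmoothOfRelativeDimension (e - 1))]
    exact RingHom.locally_of RingHom.isStandardSmoothOfRelativeDimension_respectsIso _ hfs

end K989.RBProj
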