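import Groth.Agent.RelBert.K989.Proj2

/-!
# The Bertini theorem over a local ring with infinite perfect residue field
-/

set_option autoImplicit false
universe u

open CategoryTheory CategoryTheory.Limits AlgebraicGeometry MvPolynomial CohB1 TensorProduct KaehlerDifferential
open IsLocalRing (maximalIdeal ResidueField residue)

namespace K989.RBProj

open Groth.Agent.Fga.QD1Sch Groth.Agent.Fga.QD1Alg Groth.Agent.Picfga.IdealDescent
open Groth.Agent.CohqB.ProjBC

attribute [local instance] rcAlg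

variable {n : ℕ} {R : Type u} [CommRing R] [IsLocalRing R]

/-- The closed subscheme `Z` meets the special fibre in finitely many points, with residue fields algebraic over the
residue field of `R` and where the special fibre of `Z` has embedding dimension at most `s`. -/
structure BaseLe (s : ℕ) (Z : (ProjSpace n R).IdealSheafData) : Prop where
  fin : ∀ i, {p : PrimeSpectrum (Rc n R i) | chI Z i ≤ p.asIdeal ∧
    maximalIdeal R ≤ p.asIdeal.comap (algebraMap R (Rc n R i))}.Finite
  alg : ∀ i (p : Ideal (Rc n R i)) [p.IsPrime], chI Z i ≤ p →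
    maximalIdeal R ≤ p.comap (algebraMap R (Rc n R i)) → K989.RBSpan.Alg R p
  gen : ∀ i (p : Ideal (Rc n R i)) [p.IsPrime], chI Z i ≤ p →
    maximalIdeal R ≤ p.comap (algebraMap R (Rc n R i)) → K989.RBSpan.Gen R s (chI Z i) p

omit [IsLocalRing R] in
theorem alg_of_comap {A B : Type u} [CommRing A] [CommRing B] [Algebra R A] [Algebra R B] (φ : A →ₐ[R] B)
    (hφ : Function.Surjective φ) (p : Ideal B) (h : K989.RBSpan.Alg R (p.comap (φ : A →+* B))) : K989.RBSpan.Alg R p := by
  intro b
  obtain ⟨a, rfl⟩ := hφ b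
  obtain ⟨Q, hQ, hQa⟩ := h a
  refine ⟨Q, hQ, ?_⟩
  rw [Polynomial.aeval_algHom_apply]
  exact hQa

theorem gen_of_comap {A B : Type u} [CommRing A] [CommRing B] [Algebra R A] [Algebra R B] (φ : A →ₐ[R] B)
    (hφ : Function.Surjective φ) (s : ℕ) (I : Ideal A) (p : Ideal B)
    (h : K989.RBSpan.Gen R s I (p.comap (φ : A →+* B))) : K989.RBSpan.Gen R s (I.map (φ : A →+* B)) p := by
  obtain ⟨a, ha, h⟩ := h
  refine ⟨fun i => φ (a i), ha, fun x hx => ?_⟩
  obtain ⟨x, rfl⟩ := hφ x
  obtain ⟨u, hu, hux⟩ := h x hx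
  refine ⟨φ u, hu, ?_⟩
  rw [← map_mul]
  have h1 := Ideal.mem_map_of_mem (φ : A →+* B) hux
  rw [Ideal.map_sup, Ideal.map_sup, Ideal.map_map, Ideal.map_span] at h1
  have h2 : ((φ : A →+* B).comp (algebraMap R A)) = algebraMap R B := φ.comp_algebraMap
  have h3 : (φ : A →+* B) '' (Set.range a) = Set.range fun i => φ (a i) := by
    rw [← Set.range_comp]; rfl
  rw [h2, h3] at h1
  exact h1

theorem exists_G [IsNoetherianRing R] [Infinite (ResidueField R)] [PerfectField (ResidueField R)]
    {W : (ProjSpace n R).IdealSheafData} {e : ℕ}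
    (hW : SmoothOfRelativeDimension e (W.subschemeι ≫ ProjSpace.toSpec n R)) {Z : (ProjSpace n R).IdealSheafData}
    {s : ℕ} (hZ : BaseLe s Z) (hse : s < e) {m : ℕ} (F : Fin m → P n R)
    (hgen : ∀ i, chI Z i = Ideal.span (Set.range fun j => chartHom n i (F j))) :
    ∃ G : MvPolynomial (Fin m × Fin (n + 1)) (ResidueField R), G ≠ 0 ∧ ∀ c : Fin m × Fin (n + 1) → R,
      MvPolynomial.eval (fun σ => residue R (c σ)) G ≠ 0 → ∀ H : (ProjSpace n R).IdealSheafData,
        (∀ i, chI H i = Ideal.span {chartHom n i (form F c)}) →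
          SmoothOfRelativeDimension (e - 1) ((W ⊔ H).subschemeι ≫ ProjSpace.toSpec n R) := by
  classical
  have key : ∀ i : Fin (n + 1), ∃ G : MvPolynomial (Fin m × Fin (n + 1)) (ResidueField R), G ≠ 0 ∧
      ∀ c : Fin m × Fin (n + 1) → R, MvPolynomial.eval (fun σ => residue R (c σ)) G ≠ 0 →
      ∀ (p : Ideal (Bc W i)) [p.IsPrime], maximalIdeal R ≤ p.comap (algebraMap R (Bc W i)) →
        Ideal.Quotient.mk (chI W i) (chartHom n i (form F c)) ∈ p →
          (1 : p.ResidueField) ⊗ₜ[Bc W i] D R (Bc W i) (Ideal.Quotient.mk (chI W i) (chartHom n i (form F c))) ≠ 0 := by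
    intro i
    let π := Ideal.Quotient.mkₐ R (chI W i)
    let f : Fin m → Bc W i := fun j => π (chartHom n i (F j))
    let t : Fin (n + 1) → Bc W i := fun l => Ideal.Quotient.mk (chI W i) (chartHom n i (X l : P n R))
    have hspan : (chI Z i).map (π : Rc n R i →+* Bc W i) = Ideal.span (Set.range f) := by
      rw [hgen i, Ideal.map_span, ← Set.range_comp]
      rfl
    have hmem : ∀ c, K989.RBGeneric.mem f t c = Ideal.Quotient.mk (chI W i) (chartHom n i (form F c)) := by
      intro c
      rw [chartHom_form, K989.RBGeneric.mem, K989.RBGeneric.mem, map_sum]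
      refine Finset.sum_congr rfl fun σ _ => ?_
      rw [map_mul, map_mul]
      rfl
    have hZp : ∀ (p : Ideal (Bc W i)), (∀ j, f j ∈ p) → chI Z i ≤ p.comap (π : Rc n R i →+* Bc W i) := by
      intro p hp
      rw [← Ideal.map_le_iff_le_comap, hspan, Ideal.span_le]
      rintro _ ⟨j, rfl⟩
      exact hp j
    have hRp : ∀ (p : Ideal (Bc W i)), maximalIdeal R ≤ p.comap (algebraMap R (Bc W i)) →
        maximalIdeal R ≤ (p.comap (π : Rc n R i →+* Bc W i)).comap (algebraMap R (Rc n R i)) := by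
      intro p hp
      rw [Ideal.comap_comap, π.comp_algebraMap]
      exact hp
    obtain ⟨G, hG0, hG⟩ := K989.RBGeneric.exists_affine t (aeval_surjective W i) i
      (by change Ideal.Quotient.mk (chI W i) (chartHom n i (X i : P n R)) = 1
          rw [chartHom_X_self, map_one]) f e (fun p _ => exists_standardSmooth hW i p) (by
        refine Set.Finite.subset (Set.Finite.preimage (f := PrimeSpectrum.comap (π : Rc n R i →+* Bc W i)) ?_ (hZ.fin i)) ?_
        · exact (PrimeSpectrum.comap_injective_of_surjective _ Ideal.Quotient.mk_surjective).injOn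
        · rintro p ⟨hp1, hp2⟩
          exact ⟨hZp _ hp2, hRp _ hp1⟩) (by
        intro p _ hp1 hp2
        obtain ⟨g, hg, hgs⟩ := exists_standardSmooth hW i p
        have hfr := K989.RBSpan.finrank_eq p g hg e hgs
        obtain ⟨z, hz, hDz⟩ := K989.RBSpan.exists_D_ne_zero p hp1
          (alg_of_comap π Ideal.Quotient.mk_surjective p (hZ.alg i _ (hZp p hp2) (hRp p hp1)))
          ((chI Z i).map (π : Rc n R i →+* Bc W i)) (Ideal.map_le_iff_le_comap.2 (hZp p hp2)) s
          (gen_of_comap π Ideal.Quotient.mk_surjective s _ p (hZ.gen i _ (hZp p hp2) (hRp p hp1))) (by rw [hfr]; exact hse)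
        by_contra hcon
        push Not at hcon
        apply hDz
        rw [hspan] at hz
        refine Submodule.span_induction (p := fun z _ => z ∈ p ∧ (1 : p.ResidueField) ⊗ₜ[Bc W i] D R (Bc W i) z = 0)
          ?_ ?_ ?_ ?_ hz |>.2
        · rintro _ ⟨j, rfl⟩
          exact ⟨hp2 j, hcon j⟩
        · exact ⟨zero_mem _, by rw [map_zero, tmul_zero]⟩
        · rintro x y _ _ ⟨hx, hx'⟩ ⟨hy, hy'⟩
          exact ⟨add_mem hx hy, by rw [map_add, tmul_add, hx', hy', add_zero]⟩
        · rintro a x _ ⟨hx, hx'⟩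
          refine ⟨Ideal.mul_mem_left _ _ hx, ?_⟩
          rw [smul_eq_mul, Derivation.leibniz, tmul_add, tmul_smul, hx', smul_zero, zero_add, tmul_smul,
            ← algebraMap_smul (A := p.ResidueField), Ideal.algebraMap_residueField_eq_zero.2 hx, zero_smul])
    refine ⟨G, hG0, fun c hc p _ hp hm => ?_⟩
    have h1 := hG c hc p hp
    rw [hmem] at h1
    exact h1 hm
  choose G hG0 hG using key
  refine ⟨∏ i, G i, Finset.prod_ne_zero_iff.2 fun i _ => hG0 i, fun c hc H hH => ?_⟩
  refine smooth_section hW H (fun i => chartHom n i (form F c)) hH fun i p _ hp hm => ?_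
  refine hG i c ?_ p hp hm
  rw [map_prod, Finset.prod_ne_zero_iff] at hc
  exact hc i (Finset.mem_univ i)

/-- **Bertini over a local ring**. -/
theorem exists_hypersurface [IsNoetherianRing R] [Infinite (ResidueField R)] [PerfectField (ResidueField R)]
    {κ : Type} [Finite κ] (W : κ → (ProjSpace n R).IdealSheafData) (e : κ → ℕ)
    (hW : ∀ a, SmoothOfRelativeDimension (e a) ((W a).subschemeι ≫ ProjSpace.toSpec n R))
    (Z : (ProjSpace n R).IdealSheafData) (s : ℕ) (hZ : BaseLe s Z) (hse : ∀ a, s < e a) :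
    ∃ H : (ProjSpace n R).IdealSheafData, H ≤ Z ∧
      ∀ a, SmoothOfRelativeDimension (e a - 1) ((W a ⊔ H).subschemeι ≫ ProjSpace.toSpec n R) := by
  classical
  have := Fintype.ofFinite κ
  obtain ⟨m, μ, F, hF, hgen⟩ := exists_forms Z
  choose G hG0 hG using fun a => exists_G (hW a) hZ (hse a) F hgen
  obtain ⟨c₀, hc₀⟩ : ∃ c₀ : Fin m × Fin (n + 1) → ResidueField R, MvPolynomial.eval c₀ (∏ a, G a) ≠ 0 := by
    by_contra hcon
    push Not at hcon
    exact Finset.prod_ne_zero_iff.2 (fun a _ => hG0 a) (MvPolynomial.funext fun a => by rw [hcon a, map_zero])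
  choose c hc using fun σ => IsLocalRing.residue_surjective (c₀ σ)
  obtain ⟨H, hH⟩ := exists_H hF c
  refine ⟨H, le_of_chI fun i => ?_, fun a => hG a c ?_ H hH⟩
  · rw [hH, hgen, Ideal.span_singleton_le_iff_mem, chartHom_form]
    refine Ideal.sum_mem _ fun σ _ => Ideal.mul_mem_left _ _ (Ideal.mul_mem_right _ _ (Ideal.subset_span ⟨σ.1, rfl⟩))
  · rw [map_prod, Finset.prod_ne_zero_iff] at hc₀
    have h1 := hc₀ a (Finset.mem_univ a)
    simpa only [hc] using h1

end K989.RBProj
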