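import Groth.Agent.RelBert.K989.Proj3
import Groth.Agent.RelBert.K989.Base
import Groth.Agent.Models.RMOpen
import Mathlib.AlgebraicGeometry.Morphisms.QuasiFinite

/-!
# The conditions on the base locus for finite closed subschemes
-/

set_option autoImplicit false
universe u

open CategoryTheory CategoryTheory.Limits AlgebraicGeometry MvPolynomial CohB1 TensorProduct
open IsLocalRing (maximalIdeal ResidueField residue)

namespace K989.RBProj

open Groth.Agent.Fga.QD1Sch Groth.Agent.Fga.QD1Alg Groth.Agent.Picfga.IdealDescent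
open Groth.Agent.CohqB.ProjBC

attribute [local instance] rcAlg

variable {n : ℕ} {R : Type u} [CommRing R] [IsLocalRing R]

theorem gen_of_quotient {A : Type u} [CommRing A] [Algebra R A] {s : ℕ} {I p : Ideal A} (hI : I ≤ p)
    (h : K989.RBSpan.Gen R s (⊥ : Ideal (A ⧸ I)) (p.map (Ideal.Quotient.mk I))) : K989.RBSpan.Gen R s I p := by
  obtain ⟨a, ha, h⟩ := h
  choose b hb using fun i => Ideal.Quotient.mk_surjective (a i)
  have hp : ∀ x, Ideal.Quotient.mk I x ∈ p.map (Ideal.Quotient.mk I) ↔ x ∈ p := fun x => by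
    rw [← Ideal.mem_comap, Ideal.comap_map_of_surjective _ Ideal.Quotient.mk_surjective, ← RingHom.ker_eq_comap_bot,
      Ideal.mk_ker, sup_eq_left.2 hI]
  refine ⟨b, fun i => by rw [← hp, hb]; exact ha i, fun x hx => ?_⟩
  obtain ⟨u, hu, hux⟩ := h _ ((hp x).2 hx)
  obtain ⟨u, rfl⟩ := Ideal.Quotient.mk_surjective u
  refine ⟨u, fun h => hu ((hp u).2 h), ?_⟩
  rw [← map_mul, bot_sup_eq] at hux
  have h1 : (maximalIdeal R).map (algebraMap R (A ⧸ I)) ⊔ Ideal.span (Set.range a) =
      ((maximalIdeal R).map (algebraMap R A) ⊔ Ideal.span (Set.range b)).map (Ideal.Quotient.mk I) := by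
    rw [Ideal.map_sup, Ideal.map_map, Ideal.map_span, ← Set.range_comp]
    congr 3
    funext i
    exact (hb i).symm
  rw [h1, ← Ideal.mem_comap, Ideal.comap_map_of_surjective _ Ideal.Quotient.mk_surjective,
    ← RingHom.ker_eq_comap_bot, Ideal.mk_ker] at hux
  rwa [sup_assoc, sup_comm]

theorem baseLe_of {s : ℕ} {Z : (ProjSpace n R).IdealSheafData} (hqf : ∀ i, Algebra.QuasiFinite R (Bc Z i))
    (hgen : ∀ i (q : Ideal (Bc Z i)) [q.IsPrime], maximalIdeal R ≤ q.comap (algebraMap R (Bc Z i)) →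
      K989.RBSpan.Gen R s ⊥ q) : BaseLe s Z := by
  have hq : ∀ i (p : Ideal (Rc n R i)) [p.IsPrime], chI Z i ≤ p →
      maximalIdeal R ≤ p.comap (algebraMap R (Rc n R i)) → (p.map (Ideal.Quotient.mk (chI Z i))).IsPrime ∧
      maximalIdeal R ≤ (p.map (Ideal.Quotient.mk (chI Z i))).comap (algebraMap R (Bc Z i)) := by
    intro i p _ hp hR
    refine ⟨Ideal.map_isPrime_of_surjective Ideal.Quotient.mk_surjective (by rw [Ideal.mk_ker]; exact hp), ?_⟩
    intro a ha
    exact Ideal.mem_map_of_mem _ (hR ha)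
  refine ⟨fun i => ?_, fun i p _ hp hR => ?_, fun i p _ hp hR => ?_⟩
  · have := hqf i
    refine ((K989.RBBase.fin_of_quasiFinite (R := R) (C := Bc Z i)).image
      (PrimeSpectrum.comap (Ideal.Quotient.mk (chI Z i)))).subset ?_
    rintro p ⟨hp, hR⟩
    obtain ⟨h1, h2⟩ := hq i p.asIdeal hp hR
    refine ⟨⟨_, h1⟩, h2, PrimeSpectrum.ext ?_⟩
    change (p.asIdeal.map _).comap _ = _
    rw [Ideal.comap_map_of_surjective _ Ideal.Quotient.mk_surjective, ← RingHom.ker_eq_comap_bot,
      Ideal.mk_ker, sup_eq_left.2 hp]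
  · have := hqf i
    obtain ⟨h1, h2⟩ := hq i p hp hR
    intro b
    obtain ⟨Q, hQ, hQb⟩ := K989.RBBase.alg_of_quasiFinite (R := R) (C := Bc Z i) _ h2 (Ideal.Quotient.mk _ b)
    refine ⟨Q, hQ, ?_⟩
    have h3 : Polynomial.aeval (Ideal.Quotient.mk (chI Z i) b) Q = Ideal.Quotient.mk (chI Z i) (Polynomial.aeval b Q) :=
      Polynomial.aeval_algHom_apply (Ideal.Quotient.mkₐ R (chI Z i)) b Q
    rw [h3, ← Ideal.mem_comap, Ideal.comap_map_of_surjective _ Ideal.Quotient.mk_surjective,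
      ← RingHom.ker_eq_comap_bot, Ideal.mk_ker, sup_eq_left.2 hp] at hQb
    exact hQb
  · obtain ⟨h1, h2⟩ := hq i p hp hR
    exact gen_of_quotient hp (hgen i _ h2)

omit [IsLocalRing R] in
theorem quasiFinite_of_finite (Z : (ProjSpace n R).IdealSheafData) [IsFinite (Z.subschemeι ≫ ProjSpace.toSpec n R)]
    (i : Fin (n + 1)) : Algebra.QuasiFinite R (Bc Z i) := by
  obtain ⟨c, hc, -, hcs⟩ := exists_chart Z i
  have h1 : LocallyQuasiFinite (c ≫ Z.subschemeι ≫ ProjSpace.toSpec n R) := inferInstance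
  rw [hcs, HasRingHomProperty.Spec_iff (P := @LocallyQuasiFinite)] at h1
  exact h1

theorem isReduced_chart (Z : (ProjSpace n R).IdealSheafData)
    (hred : AlgebraicGeometry.IsReduced (pullback (Z.subschemeι ≫ ProjSpace.toSpec n R)
      (Spec.map (CommRingCat.ofHom (algebraMap R (ResidueField R)))))) (i : Fin (n + 1)) :
    IsReduced (Bc Z i ⧸ (maximalIdeal R).map (algebraMap R (Bc Z i))) := by
  obtain ⟨c, hc, -, hcs⟩ := exists_chart Z i
  let j : pullback (Spec.map (CommRingCat.ofHom (algebraMap R (Bc Z i))))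
      (Spec.map (CommRingCat.ofHom (algebraMap R (ResidueField R)))) ⟶
      pullback (Z.subschemeι ≫ ProjSpace.toSpec n R) (Spec.map (CommRingCat.ofHom (algebraMap R (ResidueField R)))) :=
    pullback.map _ _ _ _ c (𝟙 _) (𝟙 _) (by rw [Category.comp_id, hcs]) (by simp)
  have hj : IsOpenImmersion j := inferInstance
  have h1 := isReduced_of_isOpenImmersion j
  have h2 : AlgebraicGeometry.IsReduced (Spec (CommRingCat.of (Bc Z i ⊗[R] ResidueField R))) :=
    isReduced_of_isOpenImmersion (pullbackSpecIso R (Bc Z i) (ResidueField R)).inv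
  have h3 : _root_.IsReduced (Bc Z i ⊗[R] ResidueField R) := by
    rwa [affine_isReduced_iff] at h2
  let e := Algebra.TensorProduct.quotIdealMapEquivTensorQuot (Bc Z i) (maximalIdeal R)
  have h4 : _root_.IsReduced (Bc Z i ⊗[R] (R ⧸ maximalIdeal R)) := h3
  exact isReduced_of_injective e.toRingEquiv.toRingHom e.injective

/-- A finite closed subscheme with reduced special fibre. -/
theorem baseLe_zero (Z : (ProjSpace n R).IdealSheafData) [IsFinite (Z.subschemeι ≫ ProjSpace.toSpec n R)]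
    (hred : AlgebraicGeometry.IsReduced (pullback (Z.subschemeι ≫ ProjSpace.toSpec n R)
      (Spec.map (CommRingCat.ofHom (algebraMap R (ResidueField R)))))) : BaseLe 0 Z := by
  refine baseLe_of (quasiFinite_of_finite Z) fun i q _ hq => ?_
  have := quasiFinite_of_finite Z i
  rw [K989.RBBase.gen_zero_iff]
  intro x hx
  rw [bot_sup_eq]
  exact K989.RBBase.exists_of_reduced (isReduced_chart Z hred i) q hq x hx

/-- A finite regular closed subscheme over a base of dimension at most one. -/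
theorem baseLe_one (hR : ringKrullDim R ≤ 1) (Z : (ProjSpace n R).IdealSheafData)
    [IsFinite (Z.subschemeι ≫ ProjSpace.toSpec n R)]
    (hreg : ∀ z : Z.subscheme, IsRegularLocalRing (Z.subscheme.presheaf.stalk z)) : BaseLe 1 Z := by
  refine baseLe_of (quasiFinite_of_finite Z) fun i q _ hq => ?_
  have := quasiFinite_of_finite Z i
  obtain ⟨c, hc, -, hcs⟩ := exists_chart Z i
  have h1 := (Groth.Agent.Models.RMOpen.stalk_openImmersion_iff c ⟨q, inferInstance⟩).1 (hreg _)
  have h2 : IsRegularLocalRing (Localization.AtPrime q) :=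
    (Groth.Agent.Models.RMOpen.stalk_iff (A := Bc Z i) ⟨q, inferInstance⟩).1 h1
  obtain ⟨t, ht, h⟩ := K989.RBBase.exists_of_regular hR q h2
  refine ⟨fun _ => t, fun _ => ht, fun x hx => ?_⟩
  obtain ⟨u, hu, hux⟩ := h x hx
  refine ⟨u, hu, Ideal.mem_sup_right ?_⟩
  rwa [Set.range_const]

theorem baseLe_inf [IsNoetherianRing R] (hπ : (maximalIdeal R).IsPrincipal) {Z₁ Z₂ : (ProjSpace n R).IdealSheafData}
    (h₁ : BaseLe 0 Z₁) (h₂ : BaseLe 0 Z₂) : BaseLe 1 (Z₁ ⊓ Z₂) := by
  have hor : ∀ i (p : Ideal (Rc n R i)) [p.IsPrime], chI (Z₁ ⊓ Z₂) i ≤ p → chI Z₁ i ≤ p ∨ chI Z₂ i ≤ p := by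
    intro i p _ hp
    rw [chI_inf] at hp
    exact (Ideal.IsPrime.inf_le inferInstance).1 hp
  refine ⟨fun i => ?_, fun i p _ hp hR => ?_, fun i p _ hp hR => ?_⟩
  · refine ((h₁.fin i).union (h₂.fin i)).subset ?_
    rintro p ⟨hp, hR⟩
    exact (hor i _ hp).imp (fun h => ⟨h, hR⟩) (fun h => ⟨h, hR⟩)
  · exact (hor i p hp).elim (fun h => h₁.alg i p h hR) (fun h => h₂.alg i p h hR)
  · rw [chI_inf]
    have hN : IsNoetherianRing (Rc n R i) :=
      isNoetherianRing_of_surjective (P n R) (Rc n R i) (chartHom n i) (chartHom_surjective n i)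
    by_cases h1 : chI Z₁ i ≤ p
    · by_cases h2 : chI Z₂ i ≤ p
      · exact K989.RBBase.gen_inf hπ hR h1 h2 (h₁.gen i p h1 hR) (h₂.gen i p h2 hR)
      · exact K989.RBBase.gen_inf_of_not_le h2 (K989.RBBase.gen_one_of_gen_zero (h₁.gen i p h1 hR))
    · have h2 := (hor i p hp).resolve_left h1
      rw [inf_comm]
      exact K989.RBBase.gen_inf_of_not_le h1 (K989.RBBase.gen_one_of_gen_zero (h₂.gen i p h2 hR))

end K989.RBProj
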